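import Groth.Agent.H23RInv.Hermitian
import Groth.Agent.H23RInv.Loc
import Mathlib.RingTheory.Etale.Pi
import Mathlib.RingTheory.RingHom.FaithfullyFlat
import Mathlib.RingTheory.Spectrum.Prime.RingHom
import Mathlib.RingTheory.Localization.BaseChange
import Mathlib.LinearAlgebra.TensorProduct.Pi

/-! # Congruence of hermitian matrices near a prime for the étale topology of the fixed ring -/

set_option autoImplicit false

universe u v w

open TensorProduct Matrix

namespace Groth.Agent.H23AzInv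

open Groth.Agent.H23RInv (bcLam)
open Groth.Agent.H23RInv.Herm (ct ct_apply ct_mul ct_one ct_ct isUnit_ct)

section CtMap

variable {A : Type v} {B : Type w} [CommRing A] [CommRing B] {μ : A ≃+* A} {μ' : B ≃+* B} {n : Type*}

theorem ct_map {f : A →+* B} (hf : ∀ x, f (μ x) = μ' (f x)) (M : Matrix n n A) :
    (ct μ M).map f = ct μ' (M.map f) := by
  ext i j; exact hf _

theorem ct_smul (c : A) (M : Matrix n n A) : ct μ (c • M) = μ c • ct μ M := by
  ext i j; simp [ct_apply]

theorem ct_add (M N : Matrix n n A) : ct μ (M + N) = ct μ M + ct μ N := by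
  ext i j; simp [ct_apply]

end CtMap

variable {S : Type u} {R : Type v} [CommRing S] [CommRing R] [Algebra S R] {lam : R ≃ₐ[S] R}

/-- `R → S' ⊗ R`. -/
noncomputable def incl (S' : Type*) [CommRing S'] [Algebra S S'] : R →+* S' ⊗[S] R :=
  (Algebra.TensorProduct.includeRight : R →ₐ[S] S' ⊗[S] R).toRingHom

theorem incl_apply (S' : Type*) [CommRing S'] [Algebra S S'] (r : R) :
    incl (S := S) S' r = (1 : S') ⊗ₜ[S] r := rfl

theorem incl_algebraMap (S' : Type*) [CommRing S'] [Algebra S S'] (s : S) :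
    incl (S := S) (R := R) S' (algebraMap S R s) = algebraMap S' (S' ⊗[S] R) (algebraMap S S' s) := by
  rw [← IsScalarTower.algebraMap_apply]
  exact (Algebra.TensorProduct.includeRight : R →ₐ[S] S' ⊗[S] R).commutes s

theorem bcLam_tmul (S' : Type*) [CommRing S'] [Algebra S S'] (s : S') (r : R) :
    bcLam S' lam (s ⊗ₜ[S] r) = s ⊗ₜ[S] lam r := by
  simp [H23RInv.bcLam]

theorem bcLam_incl (S' : Type*) [CommRing S'] [Algebra S S'] (r : R) :
    incl (S := S) S' (lam r) = bcLam S' lam (incl (S := S) S' r) := (bcLam_tmul S' 1 r).symm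

theorem bcLam_algebraMap (S' : Type*) [CommRing S'] [Algebra S S'] (s : S') :
    bcLam S' lam (algebraMap S' (S' ⊗[S] R) s) = algebraMap S' (S' ⊗[S] R) s := by
  show bcLam S' lam (s ⊗ₜ[S] (1 : R)) = s ⊗ₜ[S] 1
  rw [bcLam_tmul, map_one]

section Push

variable {S' S'' : Type*} [CommRing S'] [Algebra S S'] [CommRing S''] [Algebra S S'']

/-- Change of base. -/
noncomputable def push (φ : S' →ₐ[S] S'') : S' ⊗[S] R →ₐ[S] S'' ⊗[S] R :=
  Algebra.TensorProduct.map φ (AlgHom.id S R)

theorem push_tmul (φ : S' →ₐ[S] S'') (s : S') (r : R) : push φ (s ⊗ₜ[S] r) = φ s ⊗ₜ r := rfl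

theorem push_incl (φ : S' →ₐ[S] S'') (r : R) : push φ (incl S' r) = incl S'' r := by
  rw [incl_apply, incl_apply, push_tmul, map_one]

theorem push_algebraMap (φ : S' →ₐ[S] S'') (s : S') :
    push (R := R) φ (algebraMap S' (S' ⊗[S] R) s) = algebraMap S'' (S'' ⊗[S] R) (φ s) := rfl

theorem push_bcLam (φ : S' →ₐ[S] S'') (x : S' ⊗[S] R) :
    push φ (bcLam S' lam x) = bcLam S'' lam (push φ x) := by
  induction x using TensorProduct.induction_on with
  | zero => simp
  | add x y hx hy => simp only [map_add, hx, hy]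
  | tmul s r => rw [bcLam_tmul, push_tmul, push_tmul, bcLam_tmul]

theorem map_push_map_incl {n : Type*} (φ : S' →ₐ[S] S'') (W : Matrix n n R) :
    (W.map (incl (S := S) S')).map (push φ).toRingHom = W.map (incl (S := S) S'') := by
  ext i j; exact push_incl φ _

end Push

variable {n : Type} [Fintype n] [DecidableEq n]

/-- A congruence over `S'`. -/
def CongOver (lam : R ≃ₐ[S] R) (S' : Type u) [CommRing S'] [Algebra S S'] (W W' : Matrix n n R) : Prop :=
  ∃ (g : Matrix n n (S' ⊗[S] R)) (c : S' ⊗[S] R), IsUnit g ∧ IsUnit c ∧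
    g * W.map (incl (S := S) S') * ct (bcLam S' lam) g = c • W'.map (incl (S := S) S')

theorem CongOver.push' {S' S'' : Type u} [CommRing S'] [Algebra S S'] [CommRing S''] [Algebra S S'']
    {W W' : Matrix n n R} (h : CongOver lam S' W W') (φ : S' →ₐ[S] S'') : CongOver lam S'' W W' := by
  obtain ⟨g, c, hg, hc, hgc⟩ := h
  refine ⟨g.map (push φ).toRingHom, push φ c, hg.map (push φ).toRingHom.mapMatrix, hc.map (push φ).toRingHom, ?_⟩
  have := congrArg (fun M : Matrix n n (S' ⊗[S] R) => M.map (push φ).toRingHom) hgc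
  simp only [Matrix.map_mul] at this
  rw [ct_map (μ' := bcLam S'' lam) (fun x => push_bcLam φ x), map_push_map_incl] at this
  rw [this]
  ext i j
  simp [push_incl]

theorem CongOver.trans {S' : Type u} [CommRing S'] [Algebra S S'] {W W' W'' : Matrix n n R}
    (h : CongOver lam S' W W') (h' : CongOver lam S' W' W'') : CongOver lam S' W W'' := by
  obtain ⟨g, c, hg, hc, hgc⟩ := h
  obtain ⟨k, d, hk, hd, hkd⟩ := h'
  refine ⟨k * g, c * d, hk.mul hg, hc.mul hd, ?_⟩
  calc k * g * W.map (incl (S := S) S') * ct (bcLam S' lam) (k * g)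
      = k * (g * W.map (incl (S := S) S') * ct (bcLam S' lam) g) * ct (bcLam S' lam) k := by
        rw [ct_mul]; simp only [mul_assoc]
    _ = c • (d • W''.map (incl (S := S) S')) := by rw [hgc, mul_smul_comm, smul_mul_assoc, hkd]
    _ = _ := by rw [smul_smul]

theorem CongOver.symm {S' : Type u} [CommRing S'] [Algebra S S'] {W W' : Matrix n n R}
    (h : CongOver lam S' W W') : CongOver lam S' W' W := by
  obtain ⟨g, c, ⟨g, rfl⟩, ⟨c, rfl⟩, hgc⟩ := h
  refine ⟨↑g⁻¹, ↑c⁻¹, g⁻¹.isUnit, c⁻¹.isUnit, ?_⟩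
  have h1 : ct (bcLam S' lam) (↑g : Matrix n n (S' ⊗[S] R)) * ct (bcLam S' lam) ↑g⁻¹ = 1 := by
    rw [← ct_mul, Units.inv_mul, ct_one]
  have h2 : W'.map (incl (S := S) S') = (↑c⁻¹ : S' ⊗[S] R) • ((c : S' ⊗[S] R) • W'.map (incl (S := S) S')) := by
    rw [smul_smul, Units.inv_mul, one_smul]
  rw [h2, ← hgc, mul_smul_comm, smul_mul_assoc]
  congr 1
  simp only [mul_assoc]
  rw [h1, mul_one, ← mul_assoc, Units.inv_mul, one_mul]

/-- Congruence on an étale neighbourhood of `p`. -/
def CongNear (lam : R ≃ₐ[S] R) (p : PrimeSpectrum S) (W W' : Matrix n n R) : Prop :=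
  ∃ (S' : Type u) (_ : CommRing S') (_ : Algebra S S') (_ : Algebra.Etale S S'),
    p ∈ Set.range (PrimeSpectrum.comap (algebraMap S S')) ∧ CongOver lam S' W W'

theorem CongNear.symm {p : PrimeSpectrum S} {W W' : Matrix n n R} (h : CongNear lam p W W') :
    CongNear lam p W' W := by
  obtain ⟨S', h1, h2, h3, h4, h5⟩ := h
  exact ⟨S', h1, h2, h3, h4, h5.symm⟩

theorem mem_range_tensor (p : PrimeSpectrum S) (A B : Type u) [CommRing A] [Algebra S A] [CommRing B]
    [Algebra S B] (hA : p ∈ Set.range (PrimeSpectrum.comap (algebraMap S A)))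
    (hB : p ∈ Set.range (PrimeSpectrum.comap (algebraMap S B))) :
    p ∈ Set.range (PrimeSpectrum.comap (algebraMap S (A ⊗[S] B))) := by
  let k := p.asIdeal.ResidueField
  rw [← PrimeSpectrum.nontrivial_iff_mem_rangeComap] at hA hB ⊢
  haveI := hA
  haveI := hB
  haveI : Nontrivial ((k ⊗[S] A) ⊗[k] (k ⊗[S] B)) :=
    (Module.FaithfullyFlat.nontrivial_tensorProduct_iff_right k (k ⊗[S] A)).mpr inferInstance
  exact (TensorProduct.AlgebraTensorModule.distribBaseChange S k A B).toEquiv.nontrivial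

theorem CongNear.trans {p : PrimeSpectrum S} {W W' W'' : Matrix n n R} (h : CongNear lam p W W')
    (h' : CongNear lam p W' W'') : CongNear lam p W W'' := by
  obtain ⟨A, _, _, _, hA, hAc⟩ := h
  obtain ⟨B, _, _, _, hB, hBc⟩ := h'
  refine ⟨A ⊗[S] B, inferInstance, inferInstance, Algebra.Etale.comp S A (A ⊗[S] B),
    mem_range_tensor p A B hA hB, ?_⟩
  exact (hAc.push' Algebra.TensorProduct.includeLeft).trans
    (hBc.push' (Algebra.TensorProduct.includeRight : B →ₐ[S] A ⊗[S] B))

theorem exists_congOver {W W' : Matrix n n R} (h : ∀ p, CongNear lam p W W') :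
    ∃ (S' : Type u) (_ : CommRing S') (_ : Algebra S S') (_ : Algebra.Etale S S')
      (_ : Module.FaithfullyFlat S S'), CongOver lam S' W W' := by
  classical
  choose S₁ hS hA hE hy g c hg hc hgc using h
  letI := hS
  letI := hA
  haveI := hE
  have hopen : ∀ y, IsOpen (Set.range (PrimeSpectrum.comap (algebraMap S (S₁ y)))) := fun y =>
    PrimeSpectrum.isOpenMap_comap_of_hasGoingDown_of_finitePresentation.isOpen_range
  obtain ⟨t, ht⟩ := isCompact_univ.elim_finite_subcover _ hopen fun y _ => Set.mem_iUnion.2 ⟨y, hy y⟩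
  let P := ∀ i : t, S₁ i.1
  haveI : Module.FaithfullyFlat S P := Module.FaithfullyFlat.of_comap_surjective fun q => by
    obtain ⟨i, hi⟩ := Set.mem_iUnion.1 (ht (Set.mem_univ q))
    obtain ⟨hit, Q, hQ⟩ := Set.mem_iUnion.1 hi
    exact ⟨Q.comap (Pi.evalRingHom (fun i : t => S₁ i.1) ⟨i, hit⟩), by
      rw [← PrimeSpectrum.comap_comp_apply, ← hQ]; rfl⟩
  let pr : ∀ i : t, P →ₐ[S] S₁ i.1 := fun i => Pi.evalAlgHom S (fun i : t => S₁ i.1) i
  let Γ : P ⊗[S] R →ₐ[S] ∀ i : t, S₁ i.1 ⊗[S] R := Pi.algHom S _ fun i => push (pr i)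
  have hΓ : Function.Bijective Γ := by
    have : ⇑Γ = ⇑(TensorProduct.piLeft S R fun i : t => S₁ i.1) := funext fun z => by
      induction z using TensorProduct.induction_on with
      | zero => simp
      | add x y hx hy => simp only [map_add, hx, hy]
      | tmul x b => ext i; simp [Γ, pr, push_tmul, TensorProduct.piLeft]; rfl
    rw [this]; exact LinearEquiv.bijective _
  let e := AlgEquiv.ofBijective Γ hΓ
  have hprod : ∀ (x : ∀ i : t, S₁ i.1 ⊗[S] R) i, push (pr i) (e.symm x) = x i := fun x i =>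
    congrFun (e.apply_symm_apply x) i
  let G : Matrix n n (P ⊗[S] R) := fun a b => e.symm fun i => g i.1 a b
  have hG : ∀ i : t, G.map (push (pr i)).toRingHom = g i.1 := fun i => by
    ext a b; exact hprod (fun i : t => g i.1 a b) i
  let C : P ⊗[S] R := e.symm fun i => c i.1
  refine ⟨P, inferInstance, inferInstance, inferInstance, inferInstance, G, C, ?_, ?_, ?_⟩
  · rw [Matrix.isUnit_iff_isUnit_det, ← isUnit_map_iff e, Pi.isUnit_iff]
    intro i
    show IsUnit ((push (pr i)).toRingHom G.det)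
    rw [RingHom.map_det, RingHom.mapMatrix_apply, hG, ← Matrix.isUnit_iff_isUnit_det]
    exact hg i.1
  · rw [← isUnit_map_iff e, Pi.isUnit_iff]
    intro i
    show IsUnit (push (pr i) C)
    rw [hprod]; exact hc i.1
  · ext a b
    apply hΓ.1
    funext i
    show (push (pr i)).toRingHom ((G * W.map (incl (S := S) P) * ct (bcLam P lam) G) a b) =
      (push (pr i)).toRingHom ((C • W'.map (incl (S := S) P)) a b)
    rw [← Matrix.map_apply (f := (push (pr i)).toRingHom), Matrix.map_mul, Matrix.map_mul,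
      ct_map (μ' := bcLam (S₁ i.1) lam) (fun x => push_bcLam (pr i) x), map_push_map_incl, hG, hgc]
    simp only [Matrix.smul_apply, smul_eq_mul, Matrix.map_apply, AlgHom.toRingHom_eq_coe,
      RingHom.coe_coe, map_mul, push_incl]
    rw [hprod]

end Groth.Agent.H23AzInv
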