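import Groth.Agent.H23AzInv.Congr

/-! # Normal forms of hermitian matrices over the localisation of the fixed ring at a prime -/

set_option autoImplicit false

universe u v w

open TensorProduct Matrix

namespace Groth.Agent.H23AzInv

open Groth.Agent.H23RInv (bcLam)
open Groth.Agent.H23RInv.Herm (ct ct_apply ct_mul ct_one ct_ct isUnit_ct)

section Loc

variable {A : Type v} [CommRing A] {lam : A ≃+* A} {B : Type u} [CommRing B] [Algebra B A] [IsLocalRing B]
  (hlam : Function.Involutive lam) (hB : RInv.IsFixedRing B A lam)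
  {n : ℕ} {w : Matrix (Fin n) (Fin n) A} {e : A} (hw : IsUnit w) (he : ct lam w = e • w)
  (he1 : lam e * e = 1)
include hlam hB hw he he1

theorem exists_scalar_plus (h : (∃ a : A, lam a - a ∉ Ring.jacobson A) ∨ Odd n ∨
      (IsUnit (2 : A) ∧ e - 1 ∈ Ring.jacobson A)) :
    ∃ C : A, IsUnit C ∧ lam C * e = C := by
  rcases h with ⟨a, ha⟩ | ⟨m, rfl⟩ | ⟨h2, h1⟩
  · have hq := H23RInv.isQuadEtale hlam hB (r := a) (H23RInv.exists_isUnit_of_notMem_jacobson hlam hB ha)
    obtain ⟨b, hb⟩ := H23RInv.exists_units_eq hlam hB hq (Units.mkOfMulEqOne e (lam e) (by rw [mul_comm, he1]))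
      he1
    refine ⟨lam b, b.isUnit.map lam, ?_⟩
    have hb' : e = (b⁻¹ : Aˣ) * lam b := hb
    rw [hlam, hb', ← mul_assoc, Units.mul_inv, one_mul]
  · have hd : lam w.det = e ^ (2 * m + 1) * w.det := by
      have h := congrArg Matrix.det he
      rw [ct, Matrix.det_transpose, Matrix.det_smul, Fintype.card_fin, ← RingEquiv.coe_toRingHom,
        ← RingHom.mapMatrix_apply, ← RingHom.map_det] at h
      exact h
    refine ⟨lam (w.det * e ^ m),
      (((Matrix.isUnit_iff_isUnit_det w).mp hw).mul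
        ((IsUnit.of_mul_eq_one (lam e) (by rw [mul_comm, he1])).pow m)).map lam, ?_⟩
    rw [hlam, map_mul, hd, map_pow, mul_assoc, mul_assoc]
    have : e ^ (2 * m + 1) * (w.det * lam e ^ m) = w.det * (e ^ m * e) * (lam e * e) ^ m := by
      rw [mul_pow]; ring
    rw [this, he1, one_pow, mul_one]
  · refine ⟨1 + e, ?_, ?_⟩
    · rw [show 1 + e = 2 + (e - 1) by ring]
      exact H23RInv.Herm.isUnit_add_of_mem_jacobson hlam hB h2 h1
    · rw [map_add, map_one, add_mul, one_mul, he1, add_comm]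

theorem local_diag (h : (∃ a : A, lam a - a ∉ Ring.jacobson A) ∨ Odd n ∨
      (IsUnit (2 : A) ∧ e - 1 ∈ Ring.jacobson A)) :
    ∃ (g : Matrix (Fin n) (Fin n) A) (C : A) (d : Fin n → A), IsUnit g ∧ IsUnit C ∧
      C • (g * w * ct lam g) = Matrix.diagonal d ∧ ∀ i, lam (d i) = d i := by
  obtain ⟨C, hC, hCe⟩ := exists_scalar_plus hlam hB hw he he1 h
  set k := C • w with hk
  have hku : IsUnit k := by
    obtain ⟨c, rfl⟩ := hC
    exact (hw.smul c : IsUnit (c • w))
  have hkh : (1 : A) • ct lam k = k := by rw [one_smul, hk, ct_smul, he, smul_smul, hCe]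
  obtain ⟨d, v, hv, hd⟩ : ∃ d : Fin n → A, H23RInv.Herm.Cong lam k (Matrix.diagonal d) := by
    refine H23RInv.Herm.diag_of_hasUnit hlam hB (Or.inl rfl) n k hku hkh ?_
    refine or_iff_not_imp_left.mpr fun hn =>
      H23RInv.Herm.exists_form_unit hlam hB (Or.inl rfl) hn k hku hkh ?_
    rcases h with h | h | ⟨h2, -⟩
    · exact Or.inl h
    · exact Or.inr (Or.inr h)
    · refine Or.inr (Or.inl fun h' => ?_)
      haveI : Nontrivial A := hB.1.nontrivial
      have := H23RInv.Herm.isUnit_add_of_mem_jacobson hlam hB (h2.neg) h'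
      rw [show -(2 : A) + (1 + 1) = 0 by ring] at this
      exact not_isUnit_zero this
  refine ⟨ct lam v, C, d, isUnit_ct hv, hC, ?_, ?_⟩
  · rw [ct_ct hlam, ← hd, hk, mul_smul_comm, smul_mul_assoc]
  · intro i
    have h1 := H23RInv.Herm.Cong.herm hlam ⟨v, hv, hd⟩ hkh
    rw [one_smul] at h1
    have h2 := congrFun (congrFun h1 i) i
    simpa [ct_apply] using h2

theorem local_skew (hid : ∀ a : A, lam a - a ∈ Ring.jacobson A) (h2 : IsUnit (2 : A))
    (h1 : e + 1 ∈ Ring.jacobson A) :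
    Even n ∧ ∃ (g M : Matrix (Fin n) (Fin n) A) (C : A), IsUnit g ∧ IsUnit C ∧
      C • (g * w * ct lam g) = M ∧ (∀ i j, lam (M j i) = -M i j) ∧ ∀ i j, H23RInv.Herm.IsStd M i j := by
  set C := 1 - e with hC
  have hCu : IsUnit C := by
    rw [hC, show 1 - e = 2 + -(e + 1) by ring]
    exact H23RInv.Herm.isUnit_add_of_mem_jacobson hlam hB h2 (Submodule.neg_mem _ h1)
  set k := C • w with hk
  have hku : IsUnit k := by
    obtain ⟨c, hc⟩ := hCu
    rw [hk, ← hc]
    exact (hw.smul c : IsUnit (c • w))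
  have hkh : (-1 : A) • ct lam k = k := by
    rw [hk, ct_smul, he, smul_smul, smul_smul]
    congr 1
    rw [hC, map_sub, map_one]; linear_combination he1
  obtain ⟨hn, M, ⟨v, hv, hM⟩, hstd⟩ := H23RInv.Herm.exists_std hlam hB hid h2 n k hku hkh
  refine ⟨hn, ct lam v, M, C, isUnit_ct hv, hCu, ?_, ?_, hstd⟩
  · rw [ct_ct hlam, ← hM, hk, mul_smul_comm, smul_mul_assoc]
  · intro i j
    have h3 := congrFun (congrFun (H23RInv.Herm.Cong.herm hlam ⟨v, hv, hM⟩ hkh) i) j
    rw [Matrix.smul_apply, ct_apply, smul_eq_mul, neg_one_mul] at h3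
    rw [← h3, neg_neg]

end Loc

section Descend

variable {S : Type u} {R : Type v} [CommRing S] [CommRing R] [Algebra S R] (p : PrimeSpectrum S)

/-- Eventually in the localisations `S_f`, `f ∉ p`. -/
def Ev (Q : S → Prop) : Prop := ∃ f₀ : S, f₀ ∉ p.asIdeal ∧ ∀ f : S, f₀ ∣ f → Q f

theorem Ev.and {Q Q' : S → Prop} (h : Ev p Q) (h' : Ev p Q') : Ev p fun f => Q f ∧ Q' f := by
  obtain ⟨a, ha, hQ⟩ := h
  obtain ⟨b, hb, hQ'⟩ := h'
  exact ⟨a * b, fun hh => (p.isPrime.mem_or_mem hh).elim ha hb,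
    fun f hf => ⟨hQ f (dvd_trans (dvd_mul_right a b) hf), hQ' f (dvd_trans (dvd_mul_left b a) hf)⟩⟩

theorem Ev.forall {ι : Type*} [Finite ι] {Q : ι → S → Prop} (h : ∀ i, Ev p (Q i)) :
    Ev p fun f => ∀ i, Q i f := by
  cases nonempty_fintype ι
  choose a ha hQ using h
  exact ⟨∏ i, a i, fun hh => by
      obtain ⟨i, -, hi⟩ := p.isPrime.prod_mem_iff.1 hh
      exact ha i hi,
    fun f hf i => hQ i f (dvd_trans (Finset.dvd_prod_of_mem a (Finset.mem_univ i)) hf)⟩

theorem incl_smul (S' : Type u) [CommRing S'] [Algebra S S'] (s : S) (r : R) :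
    incl (S := S) S' (s • r) = algebraMap S' (S' ⊗[S] R) (algebraMap S S' s) * incl (S := S) S' r := by
  rw [Algebra.smul_def, map_mul, incl_algebraMap]

/-- The local ring at `p`. -/
abbrev Sp := Localization.AtPrime p.asIdeal

theorem exists_num (x : Sp p ⊗[S] R) :
    ∃ (s : S) (r : R), s ∉ p.asIdeal ∧
      algebraMap (Sp p) (Sp p ⊗[S] R) (algebraMap S (Sp p) s) * x = incl (S := S) (Sp p) r := by
  induction x using TensorProduct.induction_on with
  | zero => exact ⟨1, 0, p.isPrime.one_notMem, by simp⟩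
  | add x y hx hy =>
    obtain ⟨s, r, hs, hr⟩ := hx
    obtain ⟨t, q, ht, hq⟩ := hy
    refine ⟨s * t, t • r + s • q, fun hh => (p.isPrime.mem_or_mem hh).elim hs ht, ?_⟩
    rw [map_add, incl_smul, incl_smul, ← hr, ← hq, map_mul, map_mul]
    ring
  | tmul a r =>
    obtain ⟨⟨b, t⟩, ht⟩ := IsLocalization.surj p.asIdeal.primeCompl a
    refine ⟨t, b • r, t.2, ?_⟩
    rw [incl_smul, ← ht]
    show (algebraMap S (Sp p) t) ⊗ₜ[S] (1 : R) * a ⊗ₜ[S] r = (a * algebraMap S (Sp p) t) ⊗ₜ[S] (1 : R) * (1 : Sp p) ⊗ₜ[S] r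
    simp [mul_comm]

theorem ev_unit_algebraMap {s : S} (hs : s ∉ p.asIdeal) :
    Ev p fun f => IsUnit (algebraMap S (Localization.Away f) s) :=
  ⟨s, hs, fun f hf => isUnit_of_dvd_unit (map_dvd _ hf) (IsLocalization.Away.algebraMap_isUnit f)⟩

theorem exists_smul_eq {x y : R} (h : incl (S := S) (Sp p) x = incl (S := S) (Sp p) y) :
    ∃ s : S, s ∉ p.asIdeal ∧ s • x = s • y := by
  let g : R →ₗ[S] Sp p ⊗[S] R := TensorProduct.mk S (Sp p) R 1
  haveI : IsLocalizedModule p.asIdeal.primeCompl g :=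
    (isLocalizedModule_iff_isBaseChange p.asIdeal.primeCompl (Sp p) g).mpr (TensorProduct.isBaseChange S R (Sp p))
  obtain ⟨k, hk⟩ := IsLocalizedModule.exists_of_eq (S := p.asIdeal.primeCompl) (f := g) h
  exact ⟨k, k.2, hk⟩

theorem ev_eq {x y : R} (h : incl (S := S) (Sp p) x = incl (S := S) (Sp p) y) :
    Ev p fun f => incl (S := S) (Localization.Away f) x = incl (S := S) (Localization.Away f) y := by
  obtain ⟨s, hs, hxy⟩ := exists_smul_eq p h
  obtain ⟨f₀, hf₀, hQ⟩ := ev_unit_algebraMap p hs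
  refine ⟨f₀, hf₀, fun f hf => ?_⟩
  have := congrArg (incl (S := S) (Localization.Away f)) hxy
  rw [incl_smul, incl_smul] at this
  exact ((hQ f hf).map (algebraMap _ _)).mul_left_cancel this

theorem ev_unit {y : R} (h : IsUnit (incl (S := S) (Sp p) y)) :
    Ev p fun f => IsUnit (incl (S := S) (Localization.Away f) y) := by
  obtain ⟨q, hq⟩ := isUnit_iff_exists_inv.mp h
  obtain ⟨s, r, hs, hr⟩ := exists_num p q
  have h1 : incl (S := S) (Sp p) (y * r) = incl (S := S) (Sp p) (algebraMap S R s) := by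
    rw [map_mul, ← hr, incl_algebraMap, mul_left_comm, hq, mul_one]
  obtain ⟨f₀, hf₀, hQ⟩ := (ev_eq p h1).and p (ev_unit_algebraMap p hs)
  refine ⟨f₀, hf₀, fun f hf => ?_⟩
  obtain ⟨h2, h3⟩ := hQ f hf
  rw [map_mul, incl_algebraMap] at h2
  exact isUnit_of_mul_isUnit_left (h2 ▸ h3.map (algebraMap _ _))

/-- Clear the denominators of a matrix. -/
theorem exists_num_matrix {ι : Type} [Finite ι] (x : ι → ι → Sp p ⊗[S] R) :
    ∃ (s : S) (r : Matrix ι ι R), s ∉ p.asIdeal ∧
      ∀ i j, algebraMap (Sp p) (Sp p ⊗[S] R) (algebraMap S (Sp p) s) * x i j = incl (S := S) (Sp p) (r i j) := by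
  classical
  cases nonempty_fintype ι
  choose s r hs hr using fun i j => exists_num p (x i j)
  refine ⟨∏ k : ι × ι, s k.1 k.2, fun i j => (∏ k ∈ Finset.univ.erase (i, j), s k.1 k.2) • r i j, ?_, fun i j => ?_⟩
  · intro hh
    obtain ⟨k, -, hk⟩ := p.isPrime.prod_mem_iff.1 hh
    exact hs _ _ hk
  · rw [incl_smul, ← hr, ← Finset.mul_prod_erase Finset.univ (fun k : ι × ι => s k.1 k.2) (Finset.mem_univ (i, j)),
      map_mul, map_mul]
    ring

end Descend

end Groth.Agent.H23AzInv
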