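import Groth.Agent.H23AzInv.Local

/-! # Normal forms of hermitian matrices on an étale neighbourhood of a prime of the fixed ring -/

set_option autoImplicit false

universe u v w

open TensorProduct Matrix

namespace Groth.Agent.H23AzInv

open Groth.Agent.H23RInv (bcLam)
open Groth.Agent.H23RInv.Herm (ct ct_apply ct_mul ct_one ct_ct isUnit_ct)

theorem smul_sandwich {A : Type*} [CommRing A] {n : Type*} [Fintype n] (a c : A) (X Y Z : Matrix n n A) :
    c • ((a • X) * Y * (a • Z)) = (c * a * a) • (X * Y * Z) := by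
  rw [Matrix.smul_mul, Matrix.smul_mul, Matrix.mul_smul, smul_smul, smul_smul]

/-- The standard alternating matrix. -/
def stdJ (A : Type*) [Zero A] [One A] [Neg A] (n : ℕ) : Matrix (Fin n) (Fin n) A :=
  fun i j => if i.val / 2 = j.val / 2 then (if i < j then 1 else if j < i then -1 else 0) else 0

/-- Units acquire square roots after étale covers. -/
def SqrtCover (S : Type u) [CommRing S] : Prop :=
  ∀ (S₁ : Type u) [CommRing S₁] [Algebra S S₁] [Algebra.Etale S S₁] (x : S₁ˣ),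
    ∃ (S₂ : Type u) (_ : CommRing S₂) (_ : Algebra S₁ S₂) (_ : Algebra.Etale S₁ S₂)
      (_ : Module.FaithfullyFlat S₁ S₂) (y : S₂), y * y = algebraMap S₁ S₂ ↑x

theorem exists_sqrts {S : Type u} [CommRing S] (hsq : SqrtCover S) (S₁ : Type u) [CommRing S₁] [Algebra S S₁]
    [Algebra.Etale S S₁] : ∀ {m : ℕ} (c : Fin m → S₁ˣ),
    ∃ (S₂ : Type u) (_ : CommRing S₂) (_ : Algebra S S₂) (_ : Algebra.Etale S S₂) (φ : S₁ →ₐ[S] S₂),
      Function.Surjective (PrimeSpectrum.comap φ.toRingHom) ∧ ∀ i, ∃ y : S₂, y * y = φ (c i) := by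
  intro m
  induction m with
  | zero => exact fun c => ⟨S₁, inferInstance, inferInstance, inferInstance, AlgHom.id S S₁,
      fun q => ⟨q, rfl⟩, fun i => i.elim0⟩
  | succ m ih =>
    intro c
    obtain ⟨S₂, h1, h2, h3, φ, hφ, hr⟩ := ih (fun i => c i.castSucc)
    obtain ⟨S₃, g1, g2, g3, g4, y, hy⟩ := hsq S₂ (Units.map φ.toRingHom.toMonoidHom (c (Fin.last m)))
    letI : Algebra S S₃ := ((algebraMap S₂ S₃).comp (algebraMap S S₂)).toAlgebra
    haveI : IsScalarTower S S₂ S₃ := .of_algebraMap_eq fun _ => rfl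
    refine ⟨S₃, g1, inferInstance, Algebra.Etale.comp S S₂ S₃, (IsScalarTower.toAlgHom S S₂ S₃).comp φ,
      ?_, ?_⟩
    · intro q
      obtain ⟨q₂, rfl⟩ := hφ q
      obtain ⟨q₃, rfl⟩ := PrimeSpectrum.comap_surjective_of_faithfullyFlat (A := S₂) (B := S₃) q₂
      exact ⟨q₃, by rw [← PrimeSpectrum.comap_comp_apply]; rfl⟩
    · intro i
      induction i using Fin.lastCases with
      | last => exact ⟨y, hy⟩
      | cast i =>
        obtain ⟨z, hz⟩ := hr i
        exact ⟨algebraMap S₂ S₃ z, by rw [← map_mul, hz]; rfl⟩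

theorem exists_roots {S : Type u} [CommRing S] (hsq : SqrtCover S) (S₁ : Type u) [CommRing S₁] [Algebra S S₁]
    [Algebra.Etale S S₁] (Q₁ : PrimeSpectrum S₁) {m : ℕ} (c : Fin m → S₁ˣ) :
    ∃ (S₃ : Type u) (_ : CommRing S₃) (_ : Algebra S S₃) (_ : Algebra.Etale S S₃) (φ : S₁ →ₐ[S] S₃),
      Q₁ ∈ Set.range (PrimeSpectrum.comap φ.toRingHom) ∧
      ∃ r : Fin m → S₃, (∀ i, r i * r i = φ (c i)) ∧
        ((∀ i, (c i : S₁) - 1 ∈ Q₁.asIdeal) → (2 : S₁) ∉ Q₁.asIdeal → ∀ i, IsUnit (1 + r i)) := by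
  classical
  obtain ⟨S₂, h1, h2, h3, φ, hφ, hr⟩ := exists_sqrts hsq S₁ c
  choose y hy using hr
  obtain ⟨Q₂, hQ₂⟩ := hφ Q₁
  let r : Fin m → S₂ := fun i => if 1 + y i ∈ Q₂.asIdeal then -y i else y i
  let f : S₂ := if (∀ i, (c i : S₁) - 1 ∈ Q₁.asIdeal) ∧ (2 : S₁) ∉ Q₁.asIdeal then ∏ i, (1 + r i) else 1
  have hr2 : ∀ i, r i * r i = φ (c i) := fun i => by
    simp only [r]; split_ifs <;> simp [hy]
  have hf : f ∉ Q₂.asIdeal := by
    simp only [f]
    split_ifs with h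
    · intro hmem
      obtain ⟨i, -, hi⟩ := Q₂.isPrime.prod_mem_iff.1 hmem
      simp only [r] at hi
      split_ifs at hi with hp
      · apply h.2
        have := Q₂.asIdeal.add_mem hp hi
        rw [show 1 + y i + (1 + -y i) = φ.toRingHom 2 by rw [map_ofNat]; ring] at this
        rw [← hQ₂]; exact this
      · exact hp hi
    · exact Q₂.isPrime.one_notMem
  haveI : Algebra.Etale S₂ (Localization.Away f) := Algebra.Etale.of_isLocalizationAway f
  refine ⟨Localization.Away f, inferInstance, inferInstance, Algebra.Etale.comp S S₂ _,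
    (IsScalarTower.toAlgHom S S₂ (Localization.Away f)).comp φ, ?_, fun i => algebraMap S₂ _ (r i),
    fun i => by rw [← map_mul, hr2]; rfl, fun hc h2' i => ?_⟩
  · obtain ⟨Q₃, hQ₃⟩ : Q₂ ∈ Set.range (PrimeSpectrum.comap (algebraMap S₂ (Localization.Away f))) := by
      rw [PrimeSpectrum.localization_away_comap_range (Localization.Away f) f]; exact hf
    exact ⟨Q₃, by rw [← hQ₂, ← hQ₃, ← PrimeSpectrum.comap_comp_apply]; rfl⟩
  · rw [← map_one (algebraMap S₂ (Localization.Away f)), ← map_add]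
    refine isUnit_of_dvd_unit (map_dvd _ (?_ : 1 + r i ∣ f)) (IsLocalization.Away.algebraMap_isUnit f)
    simp only [f, if_pos (And.intro hc h2')]
    exact Finset.dvd_prod_of_mem (fun i => 1 + r i) (Finset.mem_univ i)

theorem block_std {A : Type*} [CommRing A] {μ : A ≃+* A} (a y d y' r r' t hh : A)
    (ha : μ a = -a) (hd : μ d = -d) (hy : y * y' = 1) (hμμ : μ (μ y') = y') (hr : μ r = r) (hr' : μ r' = r')
    (ht' : μ t = t) (hh' : μ hh = hh) (hrr : r * r' = 1) (ht : (1 + r) * t = 1) (h2 : 2 * hh = 1)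
    (hsq : r * r = 1 + a * d * (y' * μ y')) :
    ∃ g : Matrix (Fin 2) (Fin 2) A, IsUnit g ∧ g * !![a, y; -μ y, d] * ct μ g = !![0, 1; -1, 0] := by
  have hy2 : μ y * μ y' = 1 := by rw [← map_mul, hy, map_one]
  set d₁ := μ y' * d * y' with hd₁
  have hd₁μ : μ d₁ = -d₁ := by rw [hd₁, map_mul, map_mul, hμμ, hd]; ring
  set X := a * t with hX
  have hXμ : μ X = -X := by rw [hX, map_mul, ha, ht', neg_mul]
  set τ := -(r' * r' * d₁ * hh) with hτ
  have hτμ : μ τ = -τ := by rw [hτ, map_neg, map_mul, map_mul, map_mul, hr', hd₁μ, hh']; ring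
  have hXd : X * d₁ = r - 1 := by
    linear_combination (-t) * hsq + (r - 1) * ht
  let g₁ : Matrix (Fin 2) (Fin 2) A := !![1, 0; 0, μ y']
  let g₂ : Matrix (Fin 2) (Fin 2) A := !![1, X; 0, r']
  let g₃ : Matrix (Fin 2) (Fin 2) A := !![1, 0; τ, 1]
  have e1 : g₁ * !![a, y; -μ y, d] * ct μ g₁ = !![a, 1; -1, d₁] := by
    ext i j
    fin_cases i <;> fin_cases j <;> simp [g₁, Matrix.mul_apply, Fin.sum_univ_two, ct_apply, hμμ, hd₁]
    · exact hy
    · linear_combination hy2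
  have e2 : g₂ * !![a, 1; -1, d₁] * ct μ g₂ = !![0, 1; -1, r' * r' * d₁] := by
    ext i j
    fin_cases i <;> fin_cases j <;> simp [g₂, Matrix.mul_apply, Fin.sum_univ_two, ct_apply, hXμ, hr']
    · linear_combination (-X) * hXd + (-a) * ht + (-1 - r) * hX
    · linear_combination r' * hXd + hrr
    · linear_combination (-r') * hXd - hrr
    · ring
  have e3 : g₃ * !![0, 1; -1, r' * r' * d₁] * ct μ g₃ = !![0, 1; -1, 0] := by
    ext i j
    fin_cases i <;> fin_cases j <;> simp [g₃, Matrix.mul_apply, Fin.sum_univ_two, ct_apply, hτμ]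
    linear_combination 2 * hτ - r' * r' * d₁ * h2
  refine ⟨g₃ * g₂ * g₁, ?_, ?_⟩
  · rw [Matrix.isUnit_iff_isUnit_det, Matrix.det_mul, Matrix.det_mul]
    simp only [g₁, g₂, g₃, Matrix.det_fin_two_of, mul_zero, zero_mul, sub_zero, one_mul]
    exact (IsUnit.of_mul_eq_one r (by rw [mul_comm]; exact hrr)).mul
      (IsUnit.of_mul_eq_one (μ y) (by rw [mul_comm]; exact hy2))
  · rw [ct_mul, ct_mul]
    simp only [← mul_assoc] at e1 e2 e3 ⊢
    calc g₃ * g₂ * g₁ * !![a, y; -μ y, d] * ct μ g₁ * ct μ g₂ * ct μ g₃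
        = g₃ * g₂ * (g₁ * !![a, y; -μ y, d] * ct μ g₁) * ct μ g₂ * ct μ g₃ := by simp only [mul_assoc]
      _ = g₃ * (g₂ * !![a, 1; -1, d₁] * ct μ g₂) * ct μ g₃ := by rw [e1]; simp only [mul_assoc]
      _ = _ := by rw [e2, e3]

variable {S : Type u} {R : Type v} [CommRing S] [CommRing R] [Algebra S R] {lam : R ≃ₐ[S] R}

section AtPrime

variable (hlam : ∀ r, lam (lam r) = r) (hfix : RInv.IsFixedRing S R lam.toRingEquiv) (p : PrimeSpectrum S)

include hlam hfix

theorem fixed_loc (S' : Type u) [CommRing S'] [Algebra S S'] [Module.Flat S S'] :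
    RInv.IsFixedRing S' (S' ⊗[S] R) (bcLam S' lam) :=
  H23RInv.isFixedRing_baseChange S' lam hlam hfix (Or.inl inferInstance)

theorem mem_jac_of_forall {x : R}
    (h : ∀ q : PrimeSpectrum R, q.comap (algebraMap S R) = p → x ∈ q.asIdeal) :
    incl (S := S) (Sp p) x ∈ Ring.jacobson (Sp p ⊗[S] R) := by
  haveI : Algebra.IsIntegral (Sp p) (Sp p ⊗[S] R) :=
    H23RInv.isIntegral (H23RInv.bcLam_involutive (Sp p) lam hlam) (fixed_loc hlam hfix (Sp p))
  rw [Ring.jacobson_eq_sInf_isMaximal, Submodule.mem_sInf]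
  intro M hM
  haveI : Ideal.IsMaximal M := hM
  refine h ⟨Ideal.comap (incl (S := S) (Sp p)) M, inferInstance⟩ ?_
  ext1
  show (Ideal.comap (incl (S := S) (Sp p)) M).comap (algebraMap S R) = p.asIdeal
  rw [Ideal.comap_comap]
  have : (incl (S := S) (R := R) (Sp p)).comp (algebraMap S R) =
      (algebraMap (Sp p) (Sp p ⊗[S] R)).comp (algebraMap S (Sp p)) :=
    RingHom.ext fun s => incl_algebraMap (Sp p) s
  rw [this, ← Ideal.comap_comap, H23RInv.comap_eq_maximalIdeal (S := Sp p) M]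
  exact Localization.AtPrime.under_maximalIdeal

theorem notMem_jac {x : R} {q : PrimeSpectrum R} (hq : q.comap (algebraMap S R) = p) (hx : x ∉ q.asIdeal) :
    incl (S := S) (Sp p) x ∉ Ring.jacobson (Sp p ⊗[S] R) := by
  haveI : Algebra.IsIntegral (Sp p) (Sp p ⊗[S] R) :=
    H23RInv.isIntegral (H23RInv.bcLam_involutive (Sp p) lam hlam) (fixed_loc hlam hfix (Sp p))
  let k := q.asIdeal.ResidueField
  have hqI : q.asIdeal.comap (algebraMap S R) = p.asIdeal := congrArg PrimeSpectrum.asIdeal hq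
  have hu : ∀ y : p.asIdeal.primeCompl, IsUnit (Algebra.ofId S k y) := fun y => by
    refine isUnit_iff_ne_zero.mpr fun h0 => y.2 (hqI.le ?_)
    rw [Algebra.ofId_apply, IsScalarTower.algebraMap_apply S R k] at h0
    exact (Ideal.algebraMap_residueField_eq_zero (I := q.asIdeal)).mp h0
  let a : Sp p →ₐ[S] k := IsLocalization.liftAlgHom hu
  let b : R →ₐ[S] k := IsScalarTower.toAlgHom S R k
  let θ : Sp p ⊗[S] R →ₐ[S] k := Algebra.TensorProduct.lift a b fun _ _ => Commute.all _ _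
  have hθ : ∀ r, θ (incl (S := S) (Sp p) r) = algebraMap R k r := fun r => by
    simp [θ, incl_apply, b]
  intro hmem
  let M := RingHom.ker θ.toRingHom
  haveI : M.IsPrime := RingHom.ker_isPrime _
  have hle : IsLocalRing.maximalIdeal (Sp p) ≤ M.comap (algebraMap (Sp p) (Sp p ⊗[S] R)) := by
    intro z hz
    obtain ⟨⟨s, t⟩, hst⟩ := IsLocalization.surj p.asIdeal.primeCompl z
    have hs : algebraMap S (Sp p) s ∈ IsLocalRing.maximalIdeal (Sp p) := hst ▸ Ideal.mul_mem_right _ _ hz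
    replace hs := (IsLocalization.AtPrime.to_map_mem_maximal_iff (Sp p) p.asIdeal s).mp hs
    have h1 : a (algebraMap S (Sp p) s) = 0 := by
      rw [AlgHom.commutes, IsScalarTower.algebraMap_apply S R k, Ideal.algebraMap_residueField_eq_zero]
      exact hqI.ge hs
    rw [← hst, map_mul] at h1
    have h2 : a z = 0 := ((IsLocalization.map_units (Sp p) t).map a).mul_left_eq_zero.mp h1
    rw [Ideal.mem_comap, RingHom.mem_ker]
    show θ (z ⊗ₜ[S] (1 : R)) = 0
    simp [θ, h2]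
  have hmax : M.IsMaximal := by
    refine Ideal.isMaximal_of_isIntegral_of_isMaximal_comap (R := Sp p) M ?_
    rw [← (IsLocalRing.maximalIdeal.isMaximal (Sp p)).eq_of_le (Ideal.comap_ne_top _ (Ideal.IsPrime.ne_top ‹_›)) hle]
    infer_instance
  have := H23RInv.mem_of_mem_jacobson hmem M
  rw [RingHom.mem_ker, AlgHom.toRingHom_eq_coe, RingHom.coe_coe, hθ, Ideal.algebraMap_residueField_eq_zero] at this
  exact hx this

theorem hid_of_forall (h : ∀ q : PrimeSpectrum R, q.comap (algebraMap S R) = p → ∀ r, lam r - r ∈ q.asIdeal)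
    (x : Sp p ⊗[S] R) : bcLam (Sp p) lam x - x ∈ Ring.jacobson (Sp p ⊗[S] R) := by
  obtain ⟨s, r, hs, hr⟩ := exists_num p x
  have h1 := mem_jac_of_forall hlam hfix p (x := lam r - r) fun q hq => h q hq r
  rw [map_sub, bcLam_incl, ← hr, map_mul, bcLam_algebraMap, ← mul_sub] at h1
  exact (Ideal.unit_mul_mem_iff_mem _ ((IsLocalization.map_units (Sp p) (⟨s, hs⟩ : p.asIdeal.primeCompl)).map _)).mp h1

variable {n : ℕ} {W : Matrix (Fin n) (Fin n) R} {e : R} (hW : IsUnit W)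
  (he : ct lam.toRingEquiv W = e • W) (he1 : lam e * e = 1)

include hW he he1

theorem loc_data : IsUnit (W.map (incl (S := S) (Sp p))) ∧
    ct (bcLam (Sp p) lam) (W.map (incl (S := S) (Sp p))) = incl (S := S) (Sp p) e • W.map (incl (S := S) (Sp p)) ∧
    bcLam (Sp p) lam (incl (S := S) (Sp p) e) * incl (S := S) (Sp p) e = 1 := by
  refine ⟨hW.map (incl (S := S) (Sp p)).mapMatrix, ?_, ?_⟩
  · rw [← ct_map (μ := lam.toRingEquiv) (fun x => bcLam_incl (Sp p) x), he]
    ext i j; simp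
  · rw [← bcLam_incl, ← map_mul, he1, map_one]

theorem near_one (hsq : SqrtCover S)
    (h : (∃ q : PrimeSpectrum R, q.comap (algebraMap S R) = p ∧ ∃ r, lam r - r ∉ q.asIdeal) ∨ Odd n ∨
      (IsUnit (2 : S) ∧ ∀ q : PrimeSpectrum R, q.comap (algebraMap S R) = p → e - 1 ∈ q.asIdeal)) :
    CongNear lam p W 1 := by
  classical
  have hμ := H23RInv.bcLam_involutive (Sp p) lam hlam
  obtain ⟨hWu, hWe, hWe1⟩ := loc_data hlam hfix p hW he he1
  have hcase : (∃ a : Sp p ⊗[S] R, bcLam (Sp p) lam a - a ∉ Ring.jacobson _) ∨ Odd n ∨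
      (IsUnit (2 : Sp p ⊗[S] R) ∧ incl (S := S) (Sp p) e - 1 ∈ Ring.jacobson _) := by
    rcases h with ⟨q, hq, r, hr⟩ | h | ⟨h2, h1⟩
    · exact Or.inl ⟨incl (S := S) (Sp p) r, by rw [← bcLam_incl, ← map_sub]; exact notMem_jac hlam hfix p hq hr⟩
    · exact Or.inr (Or.inl h)
    · refine Or.inr (Or.inr ⟨?_, ?_⟩)
      · simpa [map_ofNat] using h2.map (algebraMap S (Sp p ⊗[S] R))
      · rw [← map_one (incl (S := S) (Sp p)), ← map_sub]; exact mem_jac_of_forall hlam hfix p h1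
  obtain ⟨g, C, d, hg, hC, hgd, hd⟩ := local_diag hμ (fixed_loc hlam hfix (Sp p)) hWu hWe hWe1 hcase
  obtain ⟨s, G, hs, hG⟩ := exists_num_matrix p g
  obtain ⟨t, C₀, ht, hC₀⟩ := exists_num p C
  set σ := algebraMap (Sp p) (Sp p ⊗[S] R) (algebraMap S (Sp p) s) with hσ
  set τ := algebraMap (Sp p) (Sp p ⊗[S] R) (algebraMap S (Sp p) t) with hτ
  have hσu : IsUnit σ := (IsLocalization.map_units (Sp p) (⟨s, hs⟩ : p.asIdeal.primeCompl)).map _
  have hτu : IsUnit τ := (IsLocalization.map_units (Sp p) (⟨t, ht⟩ : p.asIdeal.primeCompl)).map _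
  have hGm : Matrix.map G (incl (S := S) (Sp p)) = σ • g := by ext i j; exact (hG i j).symm
  let M := C₀ • ((G : Matrix (Fin n) (Fin n) R) * W * ct lam.toRingEquiv G)
  have hM : M.map (incl (S := S) (Sp p)) = (τ * σ * σ) • Matrix.diagonal d := by
    have : M.map (incl (S := S) (Sp p)) = (τ * C) • (Matrix.map G (incl (S := S) (Sp p)) *
        W.map (incl (S := S) (Sp p)) * ct (bcLam (Sp p) lam) (Matrix.map G (incl (S := S) (Sp p)))) := by
      simp only [M]
      rw [hC₀, ← ct_map (μ := lam.toRingEquiv) (fun x => bcLam_incl (Sp p) x), ← Matrix.map_mul, ← Matrix.map_mul]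
      ext i j; exact map_mul (incl (S := S) (Sp p)) _ _
    rw [this, hGm, ct_smul, bcLam_algebraMap, ← hσ]
    refine (smul_sandwich σ (τ * C) g _ _).trans ?_
    rw [← hgd, smul_smul]
    congr 1; ring
  have hdu : ∀ i, IsUnit (incl (S := S) (Sp p) (M i i)) := fun i => by
    have hu : IsUnit (Matrix.diagonal d) := by
      rw [← hgd]
      obtain ⟨c, rfl⟩ := hC
      exact (((hg.mul hWu).mul (isUnit_ct hg)).smul c :)
    rw [Matrix.isUnit_diagonal, Pi.isUnit_iff] at hu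
    have := congrFun (congrFun hM i) i
    rw [Matrix.map_apply, Matrix.smul_apply, Matrix.diagonal_apply_eq, smul_eq_mul] at this
    rw [this]
    exact ((hτu.mul hσu).mul hσu).mul (hu i)
  have hfixd : ∀ i, incl (S := S) (Sp p) (lam (M i i)) = incl (S := S) (Sp p) (M i i) := fun i => by
    have := congrFun (congrFun hM i) i
    rw [Matrix.map_apply, Matrix.smul_apply, Matrix.diagonal_apply_eq, smul_eq_mul] at this
    rw [bcLam_incl, this, map_mul, map_mul, map_mul, hd, bcLam_algebraMap, bcLam_algebraMap]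
  have hoff : ∀ i j, i ≠ j → incl (S := S) (Sp p) (M i j) = incl (S := S) (Sp p) 0 := fun i j hij => by
    have := congrFun (congrFun hM i) j
    rw [Matrix.map_apply, Matrix.smul_apply, Matrix.diagonal_apply_ne _ hij, smul_zero] at this
    rw [this, map_zero]
  have hGu : IsUnit (incl (S := S) (Sp p) (Matrix.det G)) := by
    rw [RingHom.map_det, RingHom.mapMatrix_apply, hGm, Matrix.det_smul]
    exact (hσu.pow _).mul ((Matrix.isUnit_iff_isUnit_det g).mp hg)
  have hC₀u : IsUnit (incl (S := S) (Sp p) C₀) := hC₀ ▸ hτu.mul hC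
  obtain ⟨f, hf, hQ⟩ := (((ev_unit p hGu).and p (ev_unit p hC₀u)).and p
    (Ev.forall p fun i => (ev_unit p (hdu i)).and p (ev_eq p (hfixd i)))).and p
      (Ev.forall p fun k : {k : Fin n × Fin n // k.1 ≠ k.2} => ev_eq p (hoff k.1.1 k.1.2 k.2))
  obtain ⟨⟨⟨hG1, hC1⟩, hd1⟩, hoff1⟩ := hQ f dvd_rfl
  let S₁ := Localization.Away f
  haveI : Algebra.Etale S S₁ := Algebra.Etale.of_isLocalizationAway f
  have hfix₁ := fixed_loc hlam hfix S₁
  have ha : ∀ i, ∃ a : S₁, algebraMap S₁ (S₁ ⊗[S] R) a = incl (S := S) S₁ (M i i) := fun i =>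
    (hfix₁.2 _).mp (by rw [← bcLam_incl]; exact (hd1 i).2)
  choose a ha using ha
  have hau : ∀ i, IsUnit (a i) := fun i =>
    H23RInv.isUnit_of_isUnit_algebraMap hfix₁ (by rw [ha]; exact (hd1 i).1)
  obtain ⟨Q₁, hQ₁⟩ : p ∈ Set.range (PrimeSpectrum.comap (algebraMap S S₁)) := by
    rw [PrimeSpectrum.localization_away_comap_range S₁ f]; exact hf
  obtain ⟨S₃, i1, i2, i3, φ, ⟨Q₃, hQ₃⟩, r, hr, -⟩ := exists_roots hsq S₁ Q₁ fun i => (hau i).unit
  have hrange : p ∈ Set.range (PrimeSpectrum.comap (algebraMap S S₃)) :=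
    ⟨Q₃, by rw [← hQ₁, ← hQ₃, ← PrimeSpectrum.comap_comp_apply]; congr 2; exact φ.comp_algebraMap.symm⟩
  refine ⟨S₃, i1, i2, i3, hrange, ?_⟩
  have hru : ∀ i, IsUnit (r i) := fun i => by
    have : IsUnit (r i * r i) := by rw [hr]; exact (hau i).unit.isUnit.map φ
    exact isUnit_of_mul_isUnit_left this
  let ι := incl (S := S) (R := R) S₃
  let D : Matrix (Fin n) (Fin n) (S₃ ⊗[S] R) :=
    Matrix.diagonal fun i => algebraMap S₃ _ (↑(hru i).unit⁻¹ : S₃)
  have hι : ∀ x, push φ (incl (S := S) S₁ x) = ι x := fun x => push_incl φ x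
  have hC3 : IsUnit (ι C₀) := hι C₀ ▸ hC1.map (push φ)
  refine ⟨D * Matrix.map G ι, ↑hC3.unit⁻¹, ?_, Units.isUnit _, ?_⟩
  · refine IsUnit.mul ?_ ?_
    · rw [Matrix.isUnit_diagonal, Pi.isUnit_iff]
      exact fun i => (Units.isUnit _).map _
    · rw [Matrix.isUnit_iff_isUnit_det, ← RingHom.mapMatrix_apply, ← RingHom.map_det, ← hι]
      exact hG1.map (push φ)
  · have hMι : M.map ι = ι C₀ • (Matrix.map G ι * W.map ι * ct (bcLam S₃ lam) (Matrix.map G ι)) := by
      rw [← ct_map (μ := lam.toRingEquiv) (fun x => bcLam_incl S₃ x), ← Matrix.map_mul, ← Matrix.map_mul]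
      ext i j; exact map_mul ι _ _
    have hMd : M.map ι = Matrix.diagonal fun i => algebraMap S₃ (S₃ ⊗[S] R) (r i * r i) := by
      ext i j
      rw [Matrix.map_apply, ← hι]
      rcases eq_or_ne i j with rfl | hij
      · rw [Matrix.diagonal_apply_eq, ← ha, push_algebraMap, hr, IsUnit.unit_spec]
      · rw [Matrix.diagonal_apply_ne _ hij, hoff1 ⟨(i, j), hij⟩, map_zero, map_zero]
    have hctD : ct (bcLam S₃ lam) D = D := by
      ext i j
      rcases eq_or_ne i j with rfl | hij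
      · show bcLam S₃ lam (D i i) = D i i
        simp only [D, Matrix.diagonal_apply_eq]
        exact bcLam_algebraMap _ _
      · simp [D, ct_apply, Matrix.diagonal_apply_ne _ hij, Matrix.diagonal_apply_ne _ hij.symm]
    have key : D * M.map ι * D = 1 := by
      rw [hMd, Matrix.diagonal_mul_diagonal, Matrix.diagonal_mul_diagonal, ← Matrix.diagonal_one]
      congr 1; funext i
      rw [← map_mul, ← map_mul, ← mul_assoc, IsUnit.val_inv_mul, one_mul, IsUnit.mul_val_inv, map_one]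
    rw [ct_mul, hctD, Matrix.map_one _ (map_zero ι) (map_one ι), ← key, hMι]
    simp only [Matrix.mul_smul, Matrix.smul_mul, smul_smul, IsUnit.val_inv_mul, one_smul, mul_assoc]
    rfl

set_option maxHeartbeats 1000000 in
theorem near_skew (hsq : SqrtCover S) (h2 : IsUnit (2 : S))
    (hram : ∀ q : PrimeSpectrum R, q.comap (algebraMap S R) = p → ∀ r, lam r - r ∈ q.asIdeal)
    (h1 : ∀ q : PrimeSpectrum R, q.comap (algebraMap S R) = p → e + 1 ∈ q.asIdeal) :
    Even n ∧ CongNear lam p W (stdJ R n) := by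
  classical
  have hμ := H23RInv.bcLam_involutive (Sp p) lam hlam
  obtain ⟨hWu, hWe, hWe1⟩ := loc_data hlam hfix p hW he he1
  have h2T : IsUnit (2 : Sp p ⊗[S] R) := by simpa [map_ofNat] using h2.map (algebraMap S (Sp p ⊗[S] R))
  obtain ⟨hn, g, M', C, hg, hC, hgd, hskew, hstd⟩ := local_skew hμ (fixed_loc hlam hfix (Sp p)) hWu hWe hWe1
    (hid_of_forall hlam hfix p hram) h2T
    (by rw [← map_one (incl (S := S) (Sp p)), ← map_add]; exact mem_jac_of_forall hlam hfix p h1)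
  refine ⟨hn, ?_⟩
  obtain ⟨m, hm⟩ : ∃ m, n = m * 2 := by obtain ⟨m, hm⟩ := hn; exact ⟨m, by omega⟩
  obtain ⟨s, G, hs, hG⟩ := exists_num_matrix p g
  obtain ⟨t, C₀, ht, hC₀⟩ := exists_num p C
  set σ := algebraMap (Sp p) (Sp p ⊗[S] R) (algebraMap S (Sp p) s) with hσ
  set τ := algebraMap (Sp p) (Sp p ⊗[S] R) (algebraMap S (Sp p) t) with hτ
  have hσu : IsUnit σ := (IsLocalization.map_units (Sp p) (⟨s, hs⟩ : p.asIdeal.primeCompl)).map _
  have hτu : IsUnit τ := (IsLocalization.map_units (Sp p) (⟨t, ht⟩ : p.asIdeal.primeCompl)).map _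
  have hGm : Matrix.map G (incl (S := S) (Sp p)) = σ • g := by ext i j; exact (hG i j).symm
  let M := C₀ • (G * W * ct lam.toRingEquiv G)
  have hM : M.map (incl (S := S) (Sp p)) = (τ * σ * σ) • M' := by
    have : M.map (incl (S := S) (Sp p)) = (τ * C) • (Matrix.map G (incl (S := S) (Sp p)) *
        W.map (incl (S := S) (Sp p)) * ct (bcLam (Sp p) lam) (Matrix.map G (incl (S := S) (Sp p)))) := by
      simp only [M]
      rw [hC₀, ← ct_map (μ := lam.toRingEquiv) (fun x => bcLam_incl (Sp p) x), ← Matrix.map_mul, ← Matrix.map_mul]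
      ext i j; exact map_mul (incl (S := S) (Sp p)) _ _
    rw [this, hGm, ct_smul, bcLam_algebraMap, ← hσ]
    refine (smul_sandwich σ (τ * C) g _ _).trans ?_
    rw [← hgd, smul_smul]
    congr 1; ring
  have hMa : ∀ i j, incl (S := S) (Sp p) (M i j) = τ * σ * σ * M' i j := fun i j => congrFun (congrFun hM i) j
  let i₀ : Fin m → Fin n := fun a => ⟨2 * a.val, by omega⟩
  let i₁ : Fin m → Fin n := fun a => ⟨2 * a.val + 1, by omega⟩
  have hyu : ∀ a, IsUnit (M' (i₀ a) (i₁ a)) := fun a => by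
    have h := (hstd (i₀ a) (i₁ a)).2.2.1 (by simp [i₀, i₁]; omega) ⟨a, by simp [i₀]; omega⟩
      (by simp [i₁, Nat.even_add_one])
    simpa using H23RInv.Herm.isUnit_add_of_mem_jacobson hμ (fixed_loc hlam hfix (Sp p)) isUnit_one h
  have hxj : ∀ a, M' (i₀ a) (i₀ a) ∈ Ring.jacobson (Sp p ⊗[S] R) := fun a =>
    (hstd (i₀ a) (i₀ a)).2.1 rfl Iff.rfl
  have hκ : IsUnit (τ * σ * σ) := (hτu.mul hσu).mul hσu
  have hY : ∀ a, IsUnit (incl (S := S) (Sp p) (M (i₀ a) (i₁ a))) := fun a => hMa _ _ ▸ hκ.mul (hyu a)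
  have hY2 : ∀ a, IsUnit (incl (S := S) (Sp p)
      (M (i₀ a) (i₁ a) * lam (M (i₀ a) (i₁ a)) + M (i₀ a) (i₀ a) * M (i₁ a) (i₁ a))) := fun a => by
    rw [map_add, map_mul, map_mul, bcLam_incl]
    refine H23RInv.Herm.isUnit_add_of_mem_jacobson hμ (fixed_loc hlam hfix (Sp p)) ((hY a).mul ((hY a).map _)) ?_
    rw [hMa]
    exact Ideal.mul_mem_right _ _ (Ideal.mul_mem_left _ _ (hxj a))
  have hGu : IsUnit (incl (S := S) (Sp p) (Matrix.det G)) := by
    rw [RingHom.map_det, RingHom.mapMatrix_apply, hGm, Matrix.det_smul]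
    exact (hσu.pow _).mul ((Matrix.isUnit_iff_isUnit_det g).mp hg)
  have hC₀u : IsUnit (incl (S := S) (Sp p) C₀) := hC₀ ▸ hτu.mul hC
  have hsk : ∀ i j, incl (S := S) (Sp p) (lam (M j i)) = incl (S := S) (Sp p) (-M i j) := fun i j => by
    rw [bcLam_incl, map_neg, hMa, hMa, map_mul, map_mul, map_mul, hskew, bcLam_algebraMap, bcLam_algebraMap,
      mul_neg]
  have hoff : ∀ i j : Fin n, i.val / 2 ≠ j.val / 2 → incl (S := S) (Sp p) (M i j) = incl (S := S) (Sp p) 0 :=
    fun i j hij => by rw [hMa, (hstd i j).1 hij, mul_zero, map_zero]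
  obtain ⟨f, hf, hQ⟩ := ((((ev_unit p hGu).and p (ev_unit p hC₀u)).and p
    (Ev.forall p fun a => (ev_unit p (hY a)).and p (ev_unit p (hY2 a)))).and p
      (Ev.forall p fun k : Fin n × Fin n => ev_eq p (hsk k.1 k.2))).and p
      (Ev.forall p fun k : {k : Fin n × Fin n // k.1.val / 2 ≠ k.2.val / 2} => ev_eq p (hoff k.1.1 k.1.2 k.2))
  obtain ⟨⟨⟨⟨hG1, hC1⟩, hy1⟩, hsk1⟩, hoff1⟩ := hQ f dvd_rfl
  let S₁ := Localization.Away f
  haveI : Algebra.Etale S S₁ := Algebra.Etale.of_isLocalizationAway f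
  have hfix₁ := fixed_loc hlam hfix S₁
  let ι₁ := incl (S := S) (R := R) S₁
  let y₁ : Fin m → S₁ ⊗[S] R := fun a => ↑(hy1 a).1.unit⁻¹
  have hy₁ : ∀ a, ι₁ (M (i₀ a) (i₁ a)) * y₁ a = 1 := fun a => (hy1 a).1.mul_val_inv
  have hsk1' : ∀ i j, bcLam S₁ lam (ι₁ (M j i)) = -ι₁ (M i j) := fun i j => by
    rw [← bcLam_incl, ← map_neg]; exact hsk1 (i, j)
  have hcfix : ∀ a, ∃ c : S₁, algebraMap S₁ (S₁ ⊗[S] R) c =
      1 + ι₁ (M (i₀ a) (i₀ a)) * ι₁ (M (i₁ a) (i₁ a)) * (y₁ a * bcLam S₁ lam (y₁ a)) := fun a =>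
    (hfix₁.2 _).mp (by
      rw [map_add, map_one, map_mul, map_mul, map_mul, hsk1', hsk1',
        H23RInv.bcLam_involutive S₁ lam hlam]
      ring)
  choose c hc using hcfix
  have hcu : ∀ a, IsUnit (c a) := fun a => by
    refine H23RInv.isUnit_of_isUnit_algebraMap hfix₁ ?_
    have h := (hy1 a).2
    rw [map_add, map_mul, map_mul, bcLam_incl] at h
    have hyy : ι₁ (M (i₀ a) (i₁ a)) * bcLam S₁ lam (ι₁ (M (i₀ a) (i₁ a))) *
        (y₁ a * bcLam S₁ lam (y₁ a)) = 1 := by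
      rw [mul_mul_mul_comm, ← map_mul, hy₁, map_one, mul_one]
    rw [hc, ← hyy, ← add_mul]
    exact h.mul ((Units.isUnit _).mul ((Units.isUnit _).map _))
  let ψ : S₁ →ₐ[S] Sp p := IsLocalization.liftAlgHom (M := Submonoid.powers f) (f := Algebra.ofId S (Sp p)) (by
    rintro ⟨_, k, rfl⟩
    show IsUnit (algebraMap S (Sp p) (f ^ k))
    rw [map_pow]
    exact (IsLocalization.map_units (Sp p) (⟨f, hf⟩ : p.asIdeal.primeCompl)).pow k)
  let Q₁ : PrimeSpectrum S₁ := PrimeSpectrum.comap ψ.toRingHom (IsLocalRing.closedPoint (Sp p))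
  have hQ₁ : Q₁.comap (algebraMap S S₁) = p := by
    rw [← PrimeSpectrum.comap_comp_apply, show ψ.toRingHom.comp (algebraMap S S₁) = algebraMap S (Sp p) from
      ψ.comp_algebraMap]
    exact PrimeSpectrum.ext Localization.AtPrime.under_maximalIdeal
  have hc1 : ∀ a, (c a) - 1 ∈ Q₁.asIdeal := fun a => by
    show ψ (c a - 1) ∈ IsLocalRing.maximalIdeal (Sp p)
    rw [IsLocalRing.mem_maximalIdeal]
    intro hu
    haveI : Nontrivial (Sp p ⊗[S] R) := (fixed_loc hlam hfix (Sp p)).1.nontrivial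
    have hmem : push (R := R) ψ (algebraMap S₁ (S₁ ⊗[S] R) (c a - 1)) ∈ Ring.jacobson (Sp p ⊗[S] R) := by
      rw [map_sub, map_one, hc, add_sub_cancel_left, map_mul, map_mul, push_incl, hMa]
      exact Ideal.mul_mem_right _ _ (Ideal.mul_mem_right _ _ (Ideal.mul_mem_left _ _ (hxj a)))
    rw [push_algebraMap] at hmem
    obtain ⟨N, hN⟩ := Ideal.exists_maximal (Sp p ⊗[S] R)
    haveI := hN
    exact hN.ne_top (Ideal.eq_top_of_isUnit_mem _ (H23RInv.mem_of_mem_jacobson hmem N) (hu.map _))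
  have h2S₁ : IsUnit (2 : S₁) := by simpa [map_ofNat] using h2.map (algebraMap S S₁)
  obtain ⟨S₃, i1, i2, i3, φ, ⟨Q₃, hQ₃⟩, r, hr, hr1⟩ := exists_roots hsq S₁ Q₁ fun a => (hcu a).unit
  replace hr1 := hr1 hc1 fun h => Q₁.isPrime.ne_top (Ideal.eq_top_of_isUnit_mem _ h h2S₁)
  have hrange : p ∈ Set.range (PrimeSpectrum.comap (algebraMap S S₃)) :=
    ⟨Q₃, by rw [← hQ₁, ← hQ₃, ← PrimeSpectrum.comap_comp_apply]; congr 2; exact φ.comp_algebraMap.symm⟩
  refine ⟨S₃, i1, i2, i3, hrange, ?_⟩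
  let ι := incl (S := S) (R := R) S₃
  have hι : ∀ x, push φ (ι₁ x) = ι x := fun x => push_incl φ x
  have hskι : ∀ i j, bcLam S₃ lam (ι (M j i)) = -ι (M i j) := fun i j => by
    rw [← hι, ← hι, ← push_bcLam, hsk1', map_neg]
  have hblock : ∀ a, ∃ g₂ : Matrix (Fin 2) (Fin 2) (S₃ ⊗[S] R), IsUnit g₂ ∧
      g₂ * !![ι (M (i₀ a) (i₀ a)), ι (M (i₀ a) (i₁ a)); -bcLam S₃ lam (ι (M (i₀ a) (i₁ a))),
        ι (M (i₁ a) (i₁ a))] * ct (bcLam S₃ lam) g₂ = !![0, 1; -1, 0] := by
    intro a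
    have hru : IsUnit (r a) :=
      isUnit_of_mul_isUnit_left (show IsUnit (r a * r a) by rw [hr]; exact (hcu a).unit.isUnit.map φ)
    obtain ⟨r', hr'⟩ := isUnit_iff_exists_inv.mp hru
    obtain ⟨t', ht'⟩ := isUnit_iff_exists_inv.mp (hr1 a)
    obtain ⟨hh, hhh⟩ := isUnit_iff_exists_inv.mp (h2.map (algebraMap S S₃))
    let al := algebraMap S₃ (S₃ ⊗[S] R)
    refine block_std _ _ _ (push φ (y₁ a)) (al (r a)) (al r') (al t') (al hh) (hskι _ _) (hskι _ _) ?_
      (H23RInv.bcLam_involutive S₃ lam hlam _) (bcLam_algebraMap _ _) (bcLam_algebraMap _ _)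
      (bcLam_algebraMap _ _) (bcLam_algebraMap _ _) ?_ ?_ ?_ ?_
    · rw [← hι, ← map_mul, hy₁, map_one]
    · rw [← map_mul, hr', map_one]
    · rw [← map_one al, ← map_add, ← map_mul, ht']
    · rw [map_ofNat] at hhh
      rw [show (2 : S₃ ⊗[S] R) = al 2 from (map_ofNat al 2).symm, ← map_mul, hhh, map_one]
    · rw [← map_mul, hr, IsUnit.unit_spec, ← push_algebraMap, hc, map_add, map_one, map_mul, map_mul, map_mul,
        hι, hι, push_bcLam]
  choose B hB hBM using hblock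
  let eq : Fin n ≃ Fin 2 × Fin m := (finCongr hm).trans (finProdFinEquiv.symm.trans (Equiv.prodComm _ _))
  have heq1 : ∀ i, (eq i).1.val = i.val % 2 := fun i => rfl
  have heq2 : ∀ i, (eq i).2.val = i.val / 2 := fun i => rfl
  let H : Fin m → Matrix (Fin 2) (Fin 2) (S₃ ⊗[S] R) := fun a =>
    !![ι (M (i₀ a) (i₀ a)), ι (M (i₀ a) (i₁ a)); -bcLam S₃ lam (ι (M (i₀ a) (i₁ a))), ι (M (i₁ a) (i₁ a))]
  have hMι : M.map ι = (Matrix.blockDiagonal H).submatrix eq eq := by
    ext i j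
    rw [Matrix.map_apply, Matrix.submatrix_apply, Matrix.blockDiagonal_apply]
    by_cases h : i.val / 2 = j.val / 2
    · have hij : (eq i).2 = (eq j).2 := Fin.ext (by rw [heq2, heq2, h])
      rw [if_pos hij]
      have ha : (eq i).2.val = i.val / 2 := heq2 i
      rcases Nat.mod_two_eq_zero_or_one i.val with hi | hi <;>
        rcases Nat.mod_two_eq_zero_or_one j.val with hj | hj <;>
        rw [show (eq i).1 = ⟨i.val % 2, Nat.mod_lt _ two_pos⟩ from Fin.ext (heq1 i),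
          show (eq j).1 = ⟨j.val % 2, Nat.mod_lt _ two_pos⟩ from Fin.ext (heq1 j)] <;> simp only [hi, hj, H]
      · obtain rfl : i = j := Fin.ext (by omega)
        rw [show i₀ (eq i).2 = i from Fin.ext (by simp [i₀, ha]; omega)]; rfl
      · rw [show i₀ (eq i).2 = i from Fin.ext (by simp [i₀, ha]; omega),
          show i₁ (eq i).2 = j from Fin.ext (by simp [i₁, ha]; omega)]; rfl
      · rw [show i₀ (eq i).2 = j from Fin.ext (by simp [i₀, ha]; omega),
          show i₁ (eq i).2 = i from Fin.ext (by simp [i₁, ha]; omega)]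
        show ι (M i j) = -bcLam S₃ lam (ι (M j i))
        rw [hskι, neg_neg]
      · obtain rfl : i = j := Fin.ext (by omega)
        rw [show i₁ (eq i).2 = i from Fin.ext (by simp [i₁, ha]; omega)]; rfl
    · rw [if_neg (fun hh => h (by rw [← heq2, ← heq2, hh])), ← hι]
      have := hoff1 ⟨(i, j), h⟩
      simp only [ι₁]
      rw [this, map_zero, map_zero]
  have hJ : (stdJ R n).map ι = (Matrix.blockDiagonal fun _ : Fin m => !![(0 : S₃ ⊗[S] R), 1; -1, 0]).submatrix eq eq := by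
    ext i j
    rw [Matrix.map_apply, Matrix.submatrix_apply, Matrix.blockDiagonal_apply]
    simp only [stdJ]
    by_cases h : i.val / 2 = j.val / 2
    · rw [if_pos h, if_pos (Fin.ext (by rw [heq2, heq2, h]))]
      rcases Nat.mod_two_eq_zero_or_one i.val with hi | hi <;>
        rcases Nat.mod_two_eq_zero_or_one j.val with hj | hj <;>
        rw [show (eq i).1 = ⟨i.val % 2, Nat.mod_lt _ two_pos⟩ from Fin.ext (heq1 i),
          show (eq j).1 = ⟨j.val % 2, Nat.mod_lt _ two_pos⟩ from Fin.ext (heq1 j)] <;> simp only [hi, hj]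
      · rw [if_neg (fun h' => absurd (Fin.lt_def.mp h') (by omega)), if_neg (fun h' => absurd (Fin.lt_def.mp h') (by omega)), map_zero]; rfl
      · rw [if_pos (Fin.lt_def.mpr (by omega)), map_one]; rfl
      · rw [if_neg (fun h' => absurd (Fin.lt_def.mp h') (by omega)), if_pos (Fin.lt_def.mpr (by omega)), map_neg, map_one]; rfl
      · rw [if_neg (fun h' => absurd (Fin.lt_def.mp h') (by omega)), if_neg (fun h' => absurd (Fin.lt_def.mp h') (by omega)), map_zero]; rfl
    · rw [if_neg h, if_neg (fun hh => h (by rw [← heq2, ← heq2, hh])), map_zero]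
  let D := (Matrix.blockDiagonal B).submatrix eq eq
  have hC3 : IsUnit (ι C₀) := hι C₀ ▸ hC1.map (push φ)
  refine ⟨D * Matrix.map G ι, ↑hC3.unit⁻¹, ?_, Units.isUnit _, ?_⟩
  · refine IsUnit.mul ((Matrix.isUnit_submatrix_equiv eq eq).mpr ?_) ?_
    · rw [Matrix.isUnit_iff_isUnit_det, Matrix.det_blockDiagonal]
      exact IsUnit.prod_iff.mpr fun a _ => (Matrix.isUnit_iff_isUnit_det _).mp (hB a)
    · rw [Matrix.isUnit_iff_isUnit_det, ← RingHom.mapMatrix_apply, ← RingHom.map_det, ← hι]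
      exact hG1.map (push φ)
  · have hMι' : M.map ι = ι C₀ • (Matrix.map G ι * W.map ι * ct (bcLam S₃ lam) (Matrix.map G ι)) := by
      rw [← ct_map (μ := lam.toRingEquiv) (fun x => bcLam_incl S₃ x), ← Matrix.map_mul, ← Matrix.map_mul]
      ext i j; exact map_mul ι _ _
    have key : D * M.map ι * ct (bcLam S₃ lam) D = (stdJ R n).map ι := by
      rw [hMι, hJ]
      simp only [D]
      rw [Groth.Agent.H23RInv.Herm.ct_submatrix, Matrix.submatrix_mul_equiv, Matrix.submatrix_mul_equiv]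
      have hct : ct (bcLam S₃ lam) (Matrix.blockDiagonal B) = Matrix.blockDiagonal fun a => ct (bcLam S₃ lam) (B a) := by
        simp only [ct]
        rw [Matrix.blockDiagonal_map _ _ (map_zero _), Matrix.blockDiagonal_transpose]
      rw [hct, ← Matrix.blockDiagonal_mul, ← Matrix.blockDiagonal_mul]
      congr 2
      funext a
      exact hBM a
    rw [ct_mul, ← key, hMι']
    simp only [Matrix.mul_smul, Matrix.smul_mul, smul_smul, IsUnit.val_inv_mul, one_smul, mul_assoc]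
    rfl

end AtPrime

end Groth.Agent.H23AzInv
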