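import Groth.Agent.H23AzInv.Sign
import Groth.Agent.H23AzInv.Near

/-! # Local isomorphism of Azumaya algebras with involution of the same sign -/

set_option autoImplicit false

universe u v w w'

open TensorProduct Matrix

namespace Groth.Agent.H23AzInv

open Groth.Agent.H23RInv (bcLam)
open Groth.Agent.H23RInv.Herm (ct ct_apply ct_mul ct_one ct_ct isUnit_ct)

theorem SqrtCover.of_etale {S : Type u} [CommRing S] (h : SqrtCover S) (T : Type u) [CommRing T] [Algebra S T]
    [Algebra.Etale S T] : SqrtCover T := fun S₁ _ _ _ x => by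
  letI : Algebra S S₁ := ((algebraMap T S₁).comp (algebraMap S T)).toAlgebra
  haveI : IsScalarTower S T S₁ := .of_algebraMap_eq fun _ => rfl
  haveI : Algebra.Etale S S₁ := Algebra.Etale.comp S T S₁
  exact h S₁ x

variable {S : Type u} {R : Type v} [CommRing S] [CommRing R] [Algebra S R] {lam : R ≃ₐ[S] R}
  {A : Type w} [Ring A] [Algebra S A] [Algebra R A] [IsScalarTower S R A]
  {A' : Type w'} [Ring A'] [Algebra S A'] [Algebra R A'] [IsScalarTower S R A']
  {t : AzInv.LamInv R A lam} {t' : AzInv.LamInv R A' lam} {n : ℕ}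

theorem Model.locIso {S₁ : Type u} [CommRing S₁] [Algebra S S₁] [Algebra.Etale S S₁] [Module.FaithfullyFlat S S₁]
    [IsAzumaya R A] [IsAzumaya R A'] (hrk : ∀ p : PrimeSpectrum R, Module.rankAtStalk (R := R) A p = n ^ 2)
    (hrk' : ∀ p : PrimeSpectrum R, Module.rankAtStalk (R := R) A' p = n ^ 2)
    (M : Model lam t n S₁) (M' : Model lam t' n S₁) (c : S₁ ⊗[S] R) (hc : IsUnit c)
    (hw : M.w = c • M'.w) : AzInv.LocIsoEt S lam t t' := by
  let e := AlgEquiv.ofBijective M.F ⟨M.F_injective hrk, M.F_surjective⟩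
  let e' := AlgEquiv.ofBijective M'.F ⟨M'.F_injective hrk', M'.F_surjective⟩
  refine ⟨S₁, inferInstance, inferInstance, inferInstance, inferInstance, e.trans e'.symm, ?_, ?_⟩
  · intro r x
    apply e'.injective
    rw [AlgEquiv.trans_apply, AlgEquiv.apply_symm_apply, map_mul, map_mul, AlgEquiv.trans_apply,
      AlgEquiv.apply_symm_apply]
    congr 1
    exact (M.F_toA ((1 : S₁) ⊗ₜ[S] r)).trans (M'.F_toA ((1 : S₁) ⊗ₜ[S] r)).symm
  · intro x
    apply e'.injective
    rw [AlgEquiv.trans_apply, AlgEquiv.apply_symm_apply, AlgEquiv.trans_apply]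
    have h1 := M.F_bc x
    have h2 := M'.F_bc (e'.symm (e x))
    rw [show M'.F (e'.symm (e x)) = M.F x from e'.apply_symm_apply (e x)] at h2
    rw [hw, Matrix.mul_smul, Matrix.smul_mul, ← h2] at h1
    obtain ⟨c, rfl⟩ := hc
    have h3 := congrArg (fun X => (↑c⁻¹ : S₁ ⊗[S] R) • X) h1
    simp only [smul_smul, Units.inv_mul, one_smul] at h3
    exact M'.w_unit.mul_right_cancel h3

theorem main (hlam : ∀ r, lam (lam r) = r) (hfix : RInv.IsFixedRing S R lam.toRingEquiv) (hsq : SqrtCover S)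
    (hn : 0 < n) (hA : AzInv.IsAzumayaDeg R A n) (hA' : AzInv.IsAzumayaDeg R A' n)
    (t : AzInv.LamInv R A lam) (t' : AzInv.LamInv R A' lam)
    (h : ∀ q : PrimeSpectrum R, (∀ r : R, lam r - r ∈ q.asIdeal) →
      Odd n ∨ (IsUnit (2 : S) ∧ (Orth t n q ↔ Orth t' n q))) :
    AzInv.LocIsoEt S lam t t' := by
  classical
  haveI := hA.1
  haveI := hA'.1
  obtain ⟨S₁, _, _, _, _, ⟨M₁⟩⟩ := exists_model hlam hfix hn hA t
  obtain ⟨S₂, _, _, _, _, ⟨M₂⟩⟩ := exists_model hlam hfix hn hA' t'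
  let T := S₁ ⊗[S] S₂
  haveI : Algebra.Etale S T := Algebra.Etale.comp S S₁ T
  haveI : Module.FaithfullyFlat S T := Module.FaithfullyFlat.trans S S₁ T
  let M := M₁.push' (Algebra.TensorProduct.includeLeft : S₁ →ₐ[S] T)
  let M' := M₂.push' (Algebra.TensorProduct.includeRight : S₂ →ₐ[S] T)
  let R₁ := T ⊗[S] R
  let μ := bcLam (R := R) T lam
  have hμ : Function.Involutive μ := H23RInv.bcLam_involutive T lam hlam
  let lam₁ : R₁ ≃ₐ[T] R₁ := AlgEquiv.ofRingEquiv (f := μ) (bcLam_algebraMap T)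
  have hfix₁ : RInv.IsFixedRing T R₁ lam₁.toRingEquiv :=
    H23RInv.isFixedRing_baseChange T lam hlam hfix (Or.inl inferInstance)
  have hsqT := hsq.of_etale T
  have hsign : ∀ q : PrimeSpectrum R₁, (∀ x, lam₁ x - x ∈ q.asIdeal) →
      Odd n ∨ (IsUnit (2 : T) ∧ (M.e - 1 ∈ q.asIdeal ↔ M'.e - 1 ∈ q.asIdeal)) := fun q hq => by
    have hr : ∀ r : R, lam r - r ∈ (q.comap (incl (S := S) (R := R) T)).asIdeal := fun r => by
      show incl (S := S) T (lam r - r) ∈ q.asIdeal
      rw [map_sub, bcLam_incl]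
      exact hq _
    refine (h _ hr).imp id fun ⟨h2, hiff⟩ => ⟨by simpa [map_ofNat] using h2.map (algebraMap S T), ?_⟩
    rw [← orth_iff hlam h2 hn hA M q hq, ← orth_iff hlam h2 hn hA' M' q hq]
    exact hiff
  have hnear : ∀ p : PrimeSpectrum T, CongNear lam₁ p M.w M'.w := by
    intro p
    by_cases hunr : ∃ q : PrimeSpectrum R₁, q.comap (algebraMap T R₁) = p ∧ ∃ x, lam₁ x - x ∉ q.asIdeal
    · exact (near_one (S := T) (R := R₁) (lam := lam₁) hμ hfix₁ p M.w_unit M.herm M.norm hsqT (Or.inl hunr)).trans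
        (near_one (S := T) (R := R₁) (lam := lam₁) hμ hfix₁ p M'.w_unit M'.herm M'.norm hsqT (Or.inl hunr)).symm
    push Not at hunr
    by_cases hodd : Odd n
    · exact (near_one (S := T) (R := R₁) (lam := lam₁) hμ hfix₁ p M.w_unit M.herm M.norm hsqT (Or.inr (Or.inl hodd))).trans
        (near_one (S := T) (R := R₁) (lam := lam₁) hμ hfix₁ p M'.w_unit M'.herm M'.norm hsqT (Or.inr (Or.inl hodd))).symm
    obtain ⟨q₀, hq₀p, hq₀⟩ := H23RInv.exists_over (lam := lam₁.toRingEquiv) hμ hfix₁ p.asIdeal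
    let q : PrimeSpectrum R₁ := ⟨q₀, hq₀p⟩
    have hqp : q.comap (algebraMap T R₁) = p := PrimeSpectrum.ext hq₀
    have huniq : ∀ q' : PrimeSpectrum R₁, q'.comap (algebraMap T R₁) = p → q' = q := fun q' hq' =>
      PrimeSpectrum.ext (H23RInv.eq_of_comap_eq (lam := lam₁.toRingEquiv) hμ hfix₁ q.asIdeal q'.asIdeal
        (hunr q hqp) ((congrArg PrimeSpectrum.asIdeal hq').trans hq₀.symm))
    obtain ⟨h2, hiff⟩ := (hsign q (hunr q hqp)).resolve_left hodd
    have hpm : ∀ (e : R₁), lam₁ e * e = 1 → e - 1 ∉ q.asIdeal → e + 1 ∈ q.asIdeal := fun e he hne => by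
      have h1 : (e - 1) * (e + 1) ∈ q.asIdeal := by
        have : (e - 1) * (e + 1) = -((lam₁ e - e) * e) := by linear_combination he
        rw [this]
        exact q.asIdeal.neg_mem (Ideal.mul_mem_right _ _ (hunr q hqp e))
      exact (q.isPrime.mem_or_mem h1).resolve_left hne
    by_cases he : M.e - 1 ∈ q.asIdeal
    · exact (near_one (S := T) (R := R₁) (lam := lam₁) hμ hfix₁ p M.w_unit M.herm M.norm hsqT
          (Or.inr (Or.inr ⟨h2, fun q' hq' => huniq q' hq' ▸ he⟩))).trans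
        (near_one (S := T) (R := R₁) (lam := lam₁) hμ hfix₁ p M'.w_unit M'.herm M'.norm hsqT
          (Or.inr (Or.inr ⟨h2, fun q' hq' => huniq q' hq' ▸ hiff.mp he⟩))).symm
    · exact (near_skew (S := T) (R := R₁) (lam := lam₁) hμ hfix₁ p M.w_unit M.herm M.norm hsqT h2 (fun q' hq' => hunr q' hq')
          fun q' hq' => huniq q' hq' ▸ hpm _ M.norm he).2.trans
        (near_skew (S := T) (R := R₁) (lam := lam₁) hμ hfix₁ p M'.w_unit M'.herm M'.norm hsqT h2 (fun q' hq' => hunr q' hq')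
          fun q' hq' => huniq q' hq' ▸ hpm _ M'.norm fun h' => he (hiff.mpr h')).2.symm
  obtain ⟨S₃, _, _, _, _, g, c, hg, hc, hgc⟩ := exists_congOver hnear
  letI : Algebra S S₃ := ((algebraMap T S₃).comp (algebraMap S T)).toAlgebra
  haveI : IsScalarTower S T S₃ := .of_algebraMap_eq fun _ => rfl
  haveI : Algebra.Etale S S₃ := Algebra.Etale.comp S T S₃
  haveI : Module.FaithfullyFlat S S₃ := Module.FaithfullyFlat.trans S T S₃
  let φ : T →ₐ[S] S₃ := IsScalarTower.toAlgHom S T S₃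
  let a : S₃ →ₐ[T] S₃ ⊗[S] R := IsScalarTower.toAlgHom T S₃ _
  let b : R₁ →ₐ[T] S₃ ⊗[S] R :=
    { (push (R := R) φ).toRingHom with commutes' := fun x => push_algebraMap (R := R) φ x }
  let κ : S₃ ⊗[T] R₁ →ₐ[T] S₃ ⊗[S] R :=
    Algebra.TensorProduct.lift a b fun _ _ => Commute.all (S := S₃ ⊗[S] R) _ _
  have hκ : ∀ x, κ (incl (S := T) S₃ x) = push (R := R) φ x := fun x => by
    simp [κ, incl_apply, a, b, ← Algebra.TensorProduct.one_def]
  have hκμ : ∀ z, κ (bcLam S₃ lam₁ z) = bcLam S₃ lam (κ z) := fun z => by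
    induction z using TensorProduct.induction_on with
    | zero => simp
    | add x y hx hy => simp only [map_add, hx, hy]
    | tmul s x =>
      rw [bcLam_tmul]
      simp only [κ, Algebra.TensorProduct.lift_tmul, map_mul]
      congr 1
      · exact (bcLam_algebraMap S₃ s).symm
      · exact push_bcLam φ x
  have hgu : IsUnit (g.map κ.toRingHom) := hg.map κ.toRingHom.mapMatrix
  obtain ⟨g', hg'⟩ := hgu
  refine ((M.push' φ).conj hlam g').locIso hA.2 hA'.2 (M'.push' φ) (κ c) (hc.map κ.toRingHom) ?_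
  have hinc : ∀ X : Matrix (Fin n) (Fin n) R₁, (X.map (incl (S := T) S₃)).map κ.toRingHom =
      X.map (push (R := R) φ).toRingHom := fun X => by
    ext i j; exact hκ _
  show (↑g' : Matrix (Fin n) (Fin n) (S₃ ⊗[S] R)) * M.w.map (push (R := R) φ).toRingHom * ct (bcLam S₃ lam) (↑g' : Matrix (Fin n) (Fin n) (S₃ ⊗[S] R)) = _
  rw [hg', ← hinc, ← ct_map (μ := bcLam S₃ lam₁) hκμ, ← Matrix.map_mul, ← Matrix.map_mul, hgc]
  ext i j
  show κ (c * incl (S := T) S₃ (M'.w i j)) = κ c * push (R := R) φ (M'.w i j)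
  rw [map_mul, hκ]

end Groth.Agent.H23AzInv
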