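import Groth.Agent.H23AzInv.Main
import Groth.Agent.H23Az.Ops
import Mathlib.RingTheory.Etale.StandardEtale
import Mathlib.RingTheory.MatrixAlgebra

/-! # Matrix algebras over Azumaya algebras with involution, and invariance of the sign -/

set_option autoImplicit false

universe u v w w'

open TensorProduct Matrix

namespace Groth.Agent.H23AzInv

open Groth.Agent.H23RInv (bcLam)
open Groth.Agent.H23RInv.Herm (ct ct_apply ct_mul ct_one ct_ct isUnit_ct)

theorem sqrtCover_of_isUnit_two {S : Type u} [CommRing S] (h2 : IsUnit (2 : S)) : SqrtCover S :=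
    fun S₁ _ _ _ x => by
  classical
  open Polynomial in
  obtain ⟨w, hw⟩ : ∃ w : S₁, 2 * w = 1 := by
    have := h2.map (algebraMap S S₁)
    rw [map_ofNat] at this
    exact this.exists_right_inv
  let P : StandardEtalePair S₁ :=
    { f := Polynomial.X ^ 2 - Polynomial.C (x : S₁)
      monic_f := by monicity!
      g := 1
      cond := ⟨Polynomial.C (w * (↑x⁻¹ : S₁)) * Polynomial.X, -Polynomial.C (↑x⁻¹ : S₁), 0, by
        have h1 : Polynomial.C (↑x⁻¹ : S₁) * Polynomial.C (x : S₁) = 1 := by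
          rw [← map_mul, Units.inv_mul, map_one]
        have hw' : 2 * Polynomial.C w = (1 : Polynomial S₁) := by
          rw [show (1 : Polynomial S₁) = Polynomial.C 1 from (map_one _).symm, ← hw, map_mul, map_ofNat]
        simp only [Polynomial.derivative_sub, Polynomial.derivative_X_pow, Polynomial.derivative_C, map_mul,
          Nat.cast_ofNat, map_ofNat]
        rw [pow_zero, Nat.add_one_sub_one, pow_one, sub_zero]
        linear_combination (Polynomial.X ^ 2 * Polynomial.C (↑x⁻¹ : S₁)) * hw' + h1⟩ }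
  have hX : P.X * P.X = algebraMap S₁ P.Ring ↑x := by
    have := P.hasMap_X.1
    simpa [P, sub_eq_zero, pow_two] using this
  have hmap : P.HasMap (AdjoinRoot.root P.f) := ⟨by rw [AdjoinRoot.aeval_eq, AdjoinRoot.mk_self], by simp [P]⟩
  haveI : Module.FaithfullyFlat S₁ P.Ring := Module.FaithfullyFlat.of_comap_surjective fun p => by
    haveI : Nontrivial S₁ := p.nontrivial
    haveI : Module.Free S₁ (AdjoinRoot P.f) := P.monic_f.free_adjoinRoot
    haveI : Nontrivial (AdjoinRoot P.f) :=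
      nontrivial_of_ne _ _ ((AdjoinRoot.powerBasis' P.monic_f).basis.ne_zero ⟨0, by
        show 0 < P.f.natDegree
        rw [show P.f = Polynomial.X ^ 2 - Polynomial.C (x : S₁) from rfl, Polynomial.natDegree_X_pow_sub_C]
        exact two_pos⟩)
    obtain ⟨Q, hQ⟩ := PrimeSpectrum.comap_surjective_of_faithfullyFlat (A := S₁) (B := AdjoinRoot P.f) p
    refine ⟨Q.comap (P.lift _ hmap).toRingHom, ?_⟩
    rw [← PrimeSpectrum.comap_comp_apply, ← hQ]
    exact congrArg (fun f => PrimeSpectrum.comap f Q) (P.lift _ hmap).comp_algebraMap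
  exact ⟨P.Ring, inferInstance, inferInstance, inferInstance, inferInstance, P.X, hX⟩

variable {S : Type u} {R : Type v} [CommRing S] [CommRing R] [Algebra S R] {lam : R ≃ₐ[S] R}
  {A : Type w} [Ring A] [Algebra S A] [Algebra R A] [IsScalarTower S R A]
  {A' : Type w'} [Ring A'] [Algebra S A'] [Algebra R A'] [IsScalarTower S R A']
  {t : AzInv.LamInv R A lam} {t' : AzInv.LamInv R A' lam}

omit [Algebra S A] [IsScalarTower S R A] in
theorem isAzumayaDeg_matrix {n N : ℕ} (hN : 0 < N) (hA : AzInv.IsAzumayaDeg R A n) :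
    AzInv.IsAzumayaDeg R (Matrix (Fin N) (Fin N) A) (N * n) := by
  haveI := hA.1
  haveI : Nonempty (Fin N) := Fin.pos_iff_nonempty.mp hN
  haveI : IsAzumaya R (Matrix (Fin N) (Fin N) R) := IsAzumaya.matrix R (Fin N)
  haveI := H23Az.isAzumaya_tensor R A (Matrix (Fin N) (Fin N) R)
  let e : A ⊗[R] Matrix (Fin N) (Fin N) R ≃ₐ[R] Matrix (Fin N) (Fin N) A := (matrixEquivTensor (Fin N) R A).symm
  refine ⟨IsAzumaya.of_AlgEquiv _ _ _ e, fun p => ?_⟩
  haveI : Nontrivial R := p.nontrivial
  rw [← Module.rankAtStalk_eq_of_equiv e.toLinearEquiv, Module.rankAtStalk_tensorProduct, Pi.mul_apply, hA.2 p,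
    Module.rankAtStalk_eq_finrank_of_free]
  simp [Module.finrank_matrix]
  ring

/-- Flattening of block matrices. -/
def flatten (T : Type*) [CommRing T] (N n : ℕ) :
    Matrix (Fin N) (Fin N) (Matrix (Fin n) (Fin n) T) ≃+* Matrix (Fin (N * n)) (Fin (N * n)) T :=
  (Matrix.compRingEquiv (Fin N) (Fin n) T).trans (Matrix.reindexAlgEquiv T T finProdFinEquiv).toRingEquiv

@[simp] theorem flatten_apply {T : Type*} [CommRing T] {N n : ℕ}
    (X : Matrix (Fin N) (Fin N) (Matrix (Fin n) (Fin n) T)) (a b : Fin (N * n)) :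
    flatten T N n X a b = X (finProdFinEquiv.symm a).1 (finProdFinEquiv.symm b).1
      (finProdFinEquiv.symm a).2 (finProdFinEquiv.symm b).2 := rfl

theorem ct_flatten {T : Type*} [CommRing T] {μ : T ≃+* T} {N n : ℕ}
    (X : Matrix (Fin N) (Fin N) (Matrix (Fin n) (Fin n) T)) :
    ct μ (flatten T N n X) = flatten T N n (Matrix.of fun i j => ct μ (X j i)) := by
  ext a b; simp [ct_apply]

theorem flatten_smul {T : Type*} [CommRing T] {N n : ℕ} (c : T)
    (X : Matrix (Fin N) (Fin N) (Matrix (Fin n) (Fin n) T)) :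
    flatten T N n (c • X) = c • flatten T N n X := by
  ext a b; simp

/-- The model of a matrix algebra. -/
noncomputable def Model.matrix {n : ℕ} {S' : Type u} [CommRing S'] [Algebra S S'] (M : Model lam t n S') (N : ℕ) :
    Model lam (t.matrix (Fin N)) (N * n) S' where
  θ := (flatten (S' ⊗[S] R) N n).toRingHom.comp M.θ.mapMatrix
  scalar r := by
    show flatten _ N n ((algebraMap R (Matrix (Fin N) (Fin N) A) r).map M.θ) = _
    ext a b
    obtain ⟨⟨i, k⟩, rfl⟩ := finProdFinEquiv.surjective a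
    obtain ⟨⟨j, l⟩, rfl⟩ := finProdFinEquiv.surjective b
    rw [flatten_apply, Matrix.map_apply, Matrix.algebraMap_matrix_apply]
    simp only [Equiv.symm_apply_apply]
    rcases eq_or_ne i j with rfl | hij
    · rcases eq_or_ne k l with rfl | hkl
      · simp [M.scalar]
      · simp [M.scalar, Matrix.diagonal_apply_ne _ hkl,
          Matrix.diagonal_apply_ne _ (show finProdFinEquiv (i, k) ≠ finProdFinEquiv (i, l) by simp [hkl])]
    · simp [hij, Matrix.diagonal_apply_ne _ (show finProdFinEquiv (i, k) ≠ finProdFinEquiv (j, l) by simp [hij])]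
  span X := by
    classical
    obtain ⟨Y, rfl⟩ := (flatten (S' ⊗[S] R) N n).surjective X
    rw [Matrix.matrix_eq_sum_single Y]
    simp only [map_sum]
    refine Submodule.sum_mem _ fun i _ => Submodule.sum_mem _ fun j _ => ?_
    generalize Y i j = Z
    refine Submodule.span_induction ?_ ?_ ?_ ?_ (M.span Z)
    · rintro _ ⟨a, rfl⟩
      refine Submodule.subset_span ⟨Matrix.single i j a, ?_⟩
      show flatten _ N n ((Matrix.single i j a).map M.θ) = _
      rw [Matrix.map_single _ _ _ M.θ]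
    · simp
    · intro a b _ _ ha hb; rw [Matrix.single_add, map_add]; exact add_mem ha hb
    · intro c a _ ha; rw [← Matrix.smul_single, flatten_smul]; exact Submodule.smul_mem _ _ ha
  w := flatten _ N n (Matrix.diagonal fun _ => M.w)
  w_unit := by
    refine IsUnit.map (flatten (S' ⊗[S] R) N n) ?_
    exact (Pi.isUnit_iff.mpr fun _ => M.w_unit : IsUnit (fun _ : Fin N => M.w)).map (Matrix.diagonalRingHom _ _)
  e := M.e
  herm := by
    rw [ct_flatten, ← flatten_smul]
    congr 1
    ext i j : 1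
    rcases eq_or_ne i j with rfl | hij
    · simp [M.herm]
    · simp [Matrix.diagonal_apply_ne _ hij, Matrix.diagonal_apply_ne _ hij.symm]
      ext; simp [ct_apply]
  norm := M.norm
  intertw X := by
    show flatten _ N n ((t.matrix (Fin N) X).map M.θ) * _ = _ * ct (bcLam S' lam) (flatten _ N n (X.map M.θ))
    rw [ct_flatten, ← map_mul, ← map_mul]
    congr 1
    ext i j : 1
    rw [Matrix.mul_diagonal, Matrix.diagonal_mul]
    exact M.intertw (X j i)

@[simp] theorem Model.matrix_e {n : ℕ} {S' : Type u} [CommRing S'] [Algebra S S'] (M : Model lam t n S') (N : ℕ) :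
    (M.matrix N).e = M.e := rfl

theorem exists_prime_over (lam : R ≃ₐ[S] R) (S₁ : Type u) [CommRing S₁] [Algebra S S₁] [Module.FaithfullyFlat S S₁]
    (q : PrimeSpectrum R) (hq : ∀ r : R, lam r - r ∈ q.asIdeal) :
    ∃ q₁ : PrimeSpectrum (S₁ ⊗[S] R), q₁.comap (incl (S := S) S₁) = q ∧ ∀ x, bcLam S₁ lam x - x ∈ q₁.asIdeal := by
  letI : Algebra R (S₁ ⊗[S] R) := Algebra.TensorProduct.rightAlgebra
  haveI : Module.FaithfullyFlat R (S₁ ⊗[S] R) :=
    Module.FaithfullyFlat.of_linearEquiv R (R ⊗[S] S₁)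
      { (TensorProduct.comm S S₁ R) with
        map_smul' := fun r x => by
          induction x using TensorProduct.induction_on with
          | zero => simp
          | add a b ha hb =>
            simp only [AddHom.toFun_eq_coe, LinearMap.coe_toAddHom, LinearEquiv.coe_coe, RingHom.id_apply,
              smul_add, map_add] at ha hb ⊢
            rw [ha, hb]
          | tmul s r' =>
            simp [Algebra.smul_def, Algebra.TensorProduct.right_algebraMap_apply,
              Algebra.TensorProduct.tmul_mul_tmul] }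
  obtain ⟨q₁, hq₁⟩ := PrimeSpectrum.comap_surjective_of_faithfullyFlat (A := R) (B := S₁ ⊗[S] R) q
  refine ⟨q₁, ?_, fun x => ?_⟩
  · rw [← hq₁]; rfl
  · induction x using TensorProduct.induction_on with
    | zero => simp
    | add a b ha hb => rw [map_add, add_sub_add_comm]; exact add_mem ha hb
    | tmul s r =>
      rw [bcLam_tmul, ← TensorProduct.tmul_sub,
        show s ⊗ₜ[S] (lam r - r) = (s ⊗ₜ 1) * incl (S := S) S₁ (lam r - r) by
          rw [incl_apply, Algebra.TensorProduct.tmul_mul_tmul, mul_one, one_mul]]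
      refine Ideal.mul_mem_left _ _ ?_
      have : lam r - r ∈ (q₁.comap (algebraMap R (S₁ ⊗[S] R))).asIdeal := by rw [hq₁]; exact hq r
      exact this

theorem orth_matrix (hlam : ∀ r, lam (lam r) = r) (hfix : RInv.IsFixedRing S R lam.toRingEquiv) (h2 : IsUnit (2 : S))
    {n N : ℕ} (hn : 0 < n) (hN : 0 < N) (hA : AzInv.IsAzumayaDeg R A n) (q : PrimeSpectrum R)
    (hq : ∀ r : R, lam r - r ∈ q.asIdeal) : Orth (t.matrix (Fin N)) (N * n) q ↔ Orth t n q := by
  obtain ⟨S₁, _, _, _, _, ⟨M⟩⟩ := exists_model hlam hfix hn hA t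
  obtain ⟨q₁, rfl, hram⟩ := exists_prime_over lam S₁ q hq
  rw [orth_iff hlam h2 hn hA M q₁ hram,
    orth_iff hlam h2 (Nat.mul_pos hN hn) (isAzumayaDeg_matrix hN hA) (M.matrix N) q₁ hram, Model.matrix_e]

theorem Model.deg_le {n m : ℕ} (hA : AzInv.IsAzumayaDeg R A n) {S₁ : Type u} [CommRing S₁] [Algebra S S₁]
    (M : Model lam t m S₁) (q₁ : PrimeSpectrum (S₁ ⊗[S] R)) : m ≤ n := by
  classical
  haveI := hA.1
  set q := q₁.comap (incl (S := S) (R := R) S₁) with hq
  let k := q.asIdeal.ResidueField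
  let K := q₁.asIdeal.ResidueField
  let π : S₁ ⊗[S] R →+* K := algebraMap _ K
  let f : k →+* K := Ideal.ResidueField.map q.asIdeal q₁.asIdeal (incl (S := S) (R := R) S₁) rfl
  letI : Algebra R K := (π.comp (incl (S := S) (R := R) S₁)).toAlgebra
  letI : Algebra k K := f.toAlgebra
  haveI : IsScalarTower R k K := .of_algebraMap_eq fun r => (Ideal.ResidueField.map_algebraMap _ _ _ _ r).symm
  have hdimK : Module.finrank K (K ⊗[R] A) = n ^ 2 := by
    rw [← (TensorProduct.AlgebraTensorModule.cancelBaseChange R k K K A).finrank_eq, Module.finrank_baseChange,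
      ← hA.2 q, Module.rankAtStalk_eq]
  let θK : A →ₗ[R] Matrix (Fin m) (Fin m) K :=
    { toFun := fun a => (M.θ a).map π
      map_add' := fun a b => by rw [map_add]; exact Matrix.map_add π (map_add π) _ _
      map_smul' := fun r a => by
        rw [RingHom.id_apply, Algebra.smul_def, map_mul, M.scalar, Matrix.map_mul, map_scalar, smul_eq_scalar_mul]
        exact (IsScalarTower.algebraMap_smul K r _) }
  let ψ : K ⊗[R] A →ₗ[K] Matrix (Fin m) (Fin m) K :=
    TensorProduct.AlgebraTensorModule.lift (LinearMap.toSpanSingleton K (A →ₗ[R] Matrix (Fin m) (Fin m) K) θK)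
  have hψ : ∀ (c : K) (a : A), ψ (c ⊗ₜ[R] a) = c • (M.θ a).map π := fun c a => by
    simp [ψ, θK]
  have hψs : Function.Surjective ψ := fun X => by
    refine Submodule.span_induction (p := fun X _ => X ∈ Set.range ψ) ?_ ⟨0, map_zero _⟩ ?_ ?_
      (span_map π M.θ M.span X)
    · rintro _ ⟨a, rfl⟩; exact ⟨1 ⊗ₜ a, by rw [hψ, one_smul]⟩
    · rintro _ _ _ _ ⟨a, rfl⟩ ⟨b, rfl⟩; exact ⟨a + b, map_add _ _ _⟩
    · rintro c _ _ ⟨z, rfl⟩; exact ⟨c • z, map_smul _ _ _⟩
  haveI : FiniteDimensional K (K ⊗[R] A) := inferInstance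
  have h := LinearMap.finrank_le_finrank_of_injective (f := ψ.dualMap) (LinearMap.dualMap_injective_of_surjective hψs)
  rw [Subspace.dual_finrank_eq, Subspace.dual_finrank_eq, hdimK, Module.finrank_matrix, Fintype.card_fin,
    Module.finrank_self, mul_one, ← pow_two] at h
  exact (Nat.pow_le_pow_iff_left two_ne_zero).mp h

theorem transport {m : ℕ} (h : AzInv.LocIsoEt S lam t t') {S₂ : Type u} [CommRing S₂] [Algebra S S₂]
    [Algebra.Etale S S₂] [Module.FaithfullyFlat S S₂] (M' : Model lam t' m S₂) :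
    ∃ (T : Type u) (_ : CommRing T) (_ : Algebra S T) (_ : Algebra.Etale S T) (_ : Module.FaithfullyFlat S T)
      (φ : S₂ →ₐ[S] T) (M : Model lam t m T), M.e = (M'.push' φ).e := by
  obtain ⟨S', _, _, _, _, f, hf, hft⟩ := h
  let T := S' ⊗[S] S₂
  haveI : Algebra.Etale S T := Algebra.Etale.comp S S' T
  haveI : Module.FaithfullyFlat S T := Module.FaithfullyFlat.trans S S' T
  let φ₁ : S' →ₐ[S] T := Algebra.TensorProduct.includeLeft
  let φ₂ : S₂ →ₐ[S] T := Algebra.TensorProduct.includeRight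
  let N := M'.push' φ₂
  let g : S' ⊗[S] A' →ₐ[S] T ⊗[S] A' := Algebra.TensorProduct.map φ₁ (AlgHom.id S A')
  let θ : A →+* Matrix (Fin m) (Fin m) (T ⊗[S] R) :=
    N.F.toRingHom.comp (g.toRingHom.comp ((f.toAlgHom.toRingHom).comp
      (Algebra.TensorProduct.includeRight : A →ₐ[S] S' ⊗[S] A).toRingHom))
  have hg1 : ∀ r, g ((1 : S') ⊗ₜ[S] algebraMap R A' r) = H23EtCover.toA S R A' T ((1 : T) ⊗ₜ r) := fun r => by
    simp [g, H23EtCover.toA_tmul]
  have hgbc : ∀ y, g (t'.bc S lam S' y) = t'.bc S lam T (g y) := fun y => by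
    induction y using TensorProduct.induction_on with
    | zero => simp
    | add a b ha hb => simp only [map_add, ha, hb]
    | tmul s a => simp [g, AzInv.LamInv.bc_tmul]
  refine ⟨T, inferInstance, inferInstance, inferInstance, inferInstance, φ₂,
    { θ := θ, scalar := fun r => ?_, span := fun X => ?_, w := N.w, w_unit := N.w_unit, e := N.e,
      herm := N.herm, norm := N.norm, intertw := fun a => ?_ }, rfl⟩
  · show N.F (g (f ((1 : S') ⊗ₜ[S] algebraMap R A r))) = _
    have h1 := hf r 1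
    rw [mul_one, map_one, mul_one] at h1
    rw [h1, hg1, N.F_toA]
    rfl
  · obtain ⟨z, rfl⟩ := N.F_surjective X
    induction z using TensorProduct.induction_on with
    | zero => simp
    | add a b ha hb => rw [map_add]; exact add_mem ha hb
    | tmul c a' =>
      rw [show c ⊗ₜ[S] a' = (c ⊗ₜ[S] (1 : A')) * g ((1 : S') ⊗ₜ[S] a') by simp [g], map_mul, N.F_tmul, map_one,
        mul_one, smul_eq_scalar_mul]
      refine Submodule.smul_mem _ _ ?_
      obtain ⟨y, hy⟩ := f.surjective ((1 : S') ⊗ₜ[S] a')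
      rw [← hy]
      clear hy
      induction y using TensorProduct.induction_on with
      | zero => simp
      | add a b ha hb => rw [map_add, map_add, map_add]; exact add_mem ha hb
      | tmul s a =>
        rw [show s ⊗ₜ[S] a = s • ((1 : S') ⊗ₜ[S] a) by rw [TensorProduct.smul_tmul', smul_eq_mul, mul_one],
          map_smul, Algebra.smul_def, map_mul, map_mul, Algebra.TensorProduct.algebraMap_apply,
          Algebra.algebraMap_self, RingHom.id_apply]
        have : g (s ⊗ₜ[S] (1 : A')) = φ₁ s ⊗ₜ[S] (1 : A') := by simp [g]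
        rw [this, N.F_tmul, map_one, mul_one, smul_eq_scalar_mul]
        exact Submodule.smul_mem _ _ (Submodule.subset_span ⟨a, rfl⟩)
  · show N.F (g (f ((1 : S') ⊗ₜ[S] t a))) * _ = _ * ct _ (N.F (g (f ((1 : S') ⊗ₜ[S] a))))
    rw [← AzInv.LamInv.bc_tmul, hft, hgbc, N.F_bc]

theorem locIsoEt_symm (h : AzInv.LocIsoEt S lam t t') : AzInv.LocIsoEt S lam t' t := by
  obtain ⟨S', _, _, _, _, f, hf, hft⟩ := h
  refine ⟨S', inferInstance, inferInstance, inferInstance, inferInstance, f.symm, fun r x => f.injective ?_,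
    fun x => f.injective ?_⟩
  · rw [hf, AlgEquiv.apply_symm_apply, AlgEquiv.apply_symm_apply]
  · rw [hft, AlgEquiv.apply_symm_apply, AlgEquiv.apply_symm_apply]

theorem locIsoEt_deg (hlam : ∀ r, lam (lam r) = r) (hfix : RInv.IsFixedRing S R lam.toRingEquiv)
    {n n' : ℕ} (hn : 0 < n) (hn' : 0 < n') (hA : AzInv.IsAzumayaDeg R A n) (hA' : AzInv.IsAzumayaDeg R A' n')
    (h : AzInv.LocIsoEt S lam t t') (q : PrimeSpectrum R) (hq : ∀ r : R, lam r - r ∈ q.asIdeal) : n = n' := by
  obtain ⟨S₁, _, _, _, _, ⟨M₁⟩⟩ := exists_model hlam hfix hn hA t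
  obtain ⟨S₂, _, _, _, _, ⟨M₂⟩⟩ := exists_model hlam hfix hn' hA' t'
  obtain ⟨T, _, _, _, _, _, M, -⟩ := transport h M₂
  obtain ⟨T', _, _, _, _, _, M', -⟩ := transport (locIsoEt_symm h) M₁
  obtain ⟨q₁, -⟩ := exists_prime_over lam T q hq
  obtain ⟨q₂, -⟩ := exists_prime_over lam T' q hq
  exact le_antisymm (M'.deg_le hA' q₂) (M.deg_le hA q₁)

theorem orth_congr (hlam : ∀ r, lam (lam r) = r) (hfix : RInv.IsFixedRing S R lam.toRingEquiv) (h2 : IsUnit (2 : S))
    {n : ℕ} (hn : 0 < n) (hA : AzInv.IsAzumayaDeg R A n) (hA' : AzInv.IsAzumayaDeg R A' n)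
    (h : AzInv.LocIsoEt S lam t t') (q : PrimeSpectrum R) (hq : ∀ r : R, lam r - r ∈ q.asIdeal) :
    Orth t n q ↔ Orth t' n q := by
  obtain ⟨S₂, _, _, _, _, ⟨M₂⟩⟩ := exists_model hlam hfix hn hA' t'
  obtain ⟨T, _, _, _, _, φ, M, hM⟩ := transport h M₂
  obtain ⟨q₁, rfl, hram⟩ := exists_prime_over lam T q hq
  rw [orth_iff hlam h2 hn hA M q₁ hram, orth_iff hlam h2 hn hA' (M₂.push' φ) q₁ hram, hM]

theorem orth_of_sameType (hlam : ∀ r, lam (lam r) = r) (hfix : RInv.IsFixedRing S R lam.toRingEquiv)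
    (h2 : IsUnit (2 : S)) {n n' : ℕ} (hn : 0 < n) (hn' : 0 < n') (hA : AzInv.IsAzumayaDeg R A n)
    (hA' : AzInv.IsAzumayaDeg R A' n') (h : AzInv.SameType S lam t t') (q : PrimeSpectrum R)
    (hq : ∀ r : R, lam r - r ∈ q.asIdeal) : Orth t n q ↔ Orth t' n' q := by
  obtain ⟨m, m', hm, hm', h⟩ := h
  have hN := isAzumayaDeg_matrix hm hA
  have hN' := isAzumayaDeg_matrix hm' hA'
  have he := locIsoEt_deg hlam hfix (Nat.mul_pos hm hn) (Nat.mul_pos hm' hn') hN hN' h q hq
  rw [← orth_matrix hlam hfix h2 hn hm hA q hq, ← orth_matrix hlam hfix h2 hn' hm' hA' q hq, ← he]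
  exact orth_congr hlam hfix h2 (Nat.mul_pos hm hn) hN (he ▸ hN') h q hq

end Groth.Agent.H23AzInv
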