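import Groth.Agent.H23EtCover.Base
import Groth.Agent.H23AzInv.Congr
import Groth.Prelude.Def_AzInv
import Mathlib.Algebra.Azumaya.Matrix

/-! # Matrix models of Azumaya algebras with involution -/

set_option autoImplicit false

universe u v w

open TensorProduct Matrix

namespace Groth.Agent.H23AzInv

open Groth.Agent.H23RInv (bcLam)
open Groth.Agent.H23RInv.Herm (ct ct_apply ct_mul ct_one ct_ct isUnit_ct)

theorem ct_scalar {T : Type*} [CommRing T] {μ : T ≃+* T} {n : Type*} [Fintype n] [DecidableEq n] (x : T) :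
    ct μ (Matrix.scalar n x) = Matrix.scalar n (μ x) := by
  ext i j
  rcases eq_or_ne i j with rfl | hij
  · simp [ct_apply]
  · simp [ct_apply, Matrix.diagonal_apply_ne _ hij, Matrix.diagonal_apply_ne _ hij.symm]

theorem map_scalar {T T' : Type*} [CommRing T] [CommRing T'] {n : Type*} [Fintype n] [DecidableEq n]
    (f : T →+* T') (x : T) : (Matrix.scalar n x).map f = Matrix.scalar n (f x) := by
  rw [Matrix.scalar_apply, Matrix.scalar_apply, Matrix.diagonal_map (map_zero f)]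

theorem smul_eq_scalar_mul {T : Type*} [CommRing T] {n : Type*} [Fintype n] [DecidableEq n] (x : T)
    (X : Matrix n n T) : Matrix.scalar n x * X = x • X :=
  (Algebra.smul_def x X).symm

theorem bcLam_push_scalar {S : Type*} [CommRing S] {R : Type*} [CommRing R] [Algebra S R] {lam : R ≃ₐ[S] R}
    {S' : Type*} [CommRing S'] [Algebra S S'] (s : S') :
    bcLam S' lam (s ⊗ₜ[S] (1 : R)) = s ⊗ₜ 1 := by
  rw [bcLam_tmul, map_one]

variable {S : Type u} {R : Type v} [CommRing S] [CommRing R] [Algebra S R] (lam : R ≃ₐ[S] R)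
  {A : Type w} [Ring A] [Algebra S A] [Algebra R A] [IsScalarTower S R A]

/-- A matrix model over `S'`. -/
structure Model (t : AzInv.LamInv R A lam) (n : ℕ) (S' : Type u) [CommRing S'] [Algebra S S'] where
  θ : A →+* Matrix (Fin n) (Fin n) (S' ⊗[S] R)
  scalar : ∀ r, θ (algebraMap R A r) = Matrix.scalar (Fin n) (incl (S := S) S' r)
  span : ∀ M, M ∈ Submodule.span (S' ⊗[S] R) (Set.range θ)
  w : Matrix (Fin n) (Fin n) (S' ⊗[S] R)
  w_unit : IsUnit w
  e : S' ⊗[S] R
  herm : ct (bcLam S' lam) w = e • w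
  norm : bcLam S' lam e * e = 1
  intertw : ∀ a, θ (t a) * w = w * ct (bcLam S' lam) (θ a)

theorem span_map {T T' : Type*} [CommRing T] [CommRing T'] (f : T →+* T') {n : ℕ} {X : Type*}
    (θ : X → Matrix (Fin n) (Fin n) T) (h : ∀ M, M ∈ Submodule.span T (Set.range θ))
    (M : Matrix (Fin n) (Fin n) T') : M ∈ Submodule.span T' (Set.range fun x => (θ x).map f) := by
  classical
  rw [Matrix.matrix_eq_sum_single M]
  refine Submodule.sum_mem _ fun i _ => Submodule.sum_mem _ fun j _ => ?_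
  have hs : Matrix.single i j (M i j) = M i j • (Matrix.single i j (1 : T)).map f := by
    rw [Matrix.map_single _ _ _ f, map_one, Matrix.smul_single, smul_eq_mul, mul_one]
  rw [hs]
  refine Submodule.smul_mem _ _ ?_
  generalize Matrix.single i j (1 : T) = N
  refine Submodule.span_induction ?_ ?_ ?_ ?_ (h N)
  · rintro _ ⟨x, rfl⟩; exact Submodule.subset_span ⟨x, rfl⟩
  · simp
  · intro a b _ _ ha hb; rw [Matrix.map_add f (map_add f)]; exact add_mem ha hb
  · intro c a _ ha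
    rw [show (c • a).map f = f c • a.map f by ext; simp]
    exact Submodule.smul_mem _ _ ha

variable {lam} {t : AzInv.LamInv R A lam} {n : ℕ}

/-- Change of base of a model. -/
noncomputable def Model.push' {S' S'' : Type u} [CommRing S'] [Algebra S S'] [CommRing S''] [Algebra S S'']
    (M : Model lam t n S') (φ : S' →ₐ[S] S'') : Model lam t n S'' where
  θ := (push φ).toRingHom.mapMatrix.comp M.θ
  scalar r := by
    show (M.θ (algebraMap R A r)).map (push φ).toRingHom = _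
    rw [M.scalar, map_scalar]
    exact congrArg _ (push_incl φ r)
  span X := span_map (push φ).toRingHom M.θ M.span X
  w := M.w.map (push φ).toRingHom
  w_unit := M.w_unit.map (push φ).toRingHom.mapMatrix
  e := push φ M.e
  herm := by
    rw [← ct_map (μ := bcLam S' lam) (fun x => push_bcLam φ x), M.herm]
    ext i j; simp
  norm := by rw [← push_bcLam, ← map_mul, M.norm, map_one]
  intertw a := by
    show (M.θ (t a)).map (push φ).toRingHom * _ = _ * ct (bcLam S'' lam) ((M.θ a).map (push φ).toRingHom)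
    rw [← ct_map (μ := bcLam S' lam) (fun x => push_bcLam φ x), ← Matrix.map_mul, ← Matrix.map_mul, M.intertw]

/-- The congruent model. -/
noncomputable def Model.conj {S' : Type u} [CommRing S'] [Algebra S S'] (M : Model lam t n S') (hlam : ∀ r, lam (lam r) = r)
    (g : (Matrix (Fin n) (Fin n) (S' ⊗[S] R))ˣ) : Model lam t n S' where
  θ :=
    { toFun := fun a => (↑g : Matrix (Fin n) (Fin n) (S' ⊗[S] R)) * M.θ a * (↑g⁻¹ : Matrix (Fin n) (Fin n) (S' ⊗[S] R))
      map_one' := by rw [map_one, mul_one, Units.mul_inv]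
      map_mul' := fun a b => by
        rw [map_mul]; simp only [mul_assoc, Units.inv_mul_cancel_left]
      map_zero' := by simp
      map_add' := fun a b => by rw [map_add, mul_add, add_mul] }
  scalar r := by
    show (↑g : Matrix (Fin n) (Fin n) (S' ⊗[S] R)) * M.θ (algebraMap R A r) * (↑g⁻¹ : Matrix (Fin n) (Fin n) (S' ⊗[S] R)) = _
    rw [M.scalar, ← (Matrix.scalar_commute _ (fun r' => Commute.all (S := S' ⊗[S] R) _ r') (g : Matrix (Fin n) (Fin n) (S' ⊗[S] R))).eq,
      mul_assoc, Units.mul_inv, mul_one]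
  span X := by
    have h := M.span ((↑g⁻¹ : Matrix (Fin n) (Fin n) (S' ⊗[S] R)) * X * (↑g : Matrix (Fin n) (Fin n) (S' ⊗[S] R)))
    have hX : X = (↑g : Matrix (Fin n) (Fin n) (S' ⊗[S] R)) * ((↑g⁻¹ : Matrix (Fin n) (Fin n) (S' ⊗[S] R)) * X * (↑g : Matrix (Fin n) (Fin n) (S' ⊗[S] R))) * (↑g⁻¹ : Matrix (Fin n) (Fin n) (S' ⊗[S] R)) := by
      simp only [mul_assoc, Units.mul_inv, mul_one, Units.mul_inv_cancel_left]
    rw [hX]
    generalize (↑g⁻¹ : Matrix (Fin n) (Fin n) (S' ⊗[S] R)) * X * (↑g : Matrix (Fin n) (Fin n) (S' ⊗[S] R)) = Y at h ⊢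
    refine Submodule.span_induction ?_ ?_ ?_ ?_ h
    · rintro _ ⟨a, rfl⟩; exact Submodule.subset_span ⟨a, rfl⟩
    · simp
    · intro a b _ _ ha hb; rw [mul_add, add_mul]; exact add_mem ha hb
    · intro c a _ ha; rw [Matrix.mul_smul, Matrix.smul_mul]; exact Submodule.smul_mem _ _ ha
  w := (↑g : Matrix (Fin n) (Fin n) (S' ⊗[S] R)) * M.w * ct (bcLam S' lam) ↑g
  w_unit := (g.isUnit.mul M.w_unit).mul (isUnit_ct g.isUnit)
  e := M.e
  herm := by
    rw [ct_mul, ct_mul, ct_ct (H23RInv.bcLam_involutive S' lam hlam), M.herm, Matrix.smul_mul, Matrix.mul_smul, mul_assoc]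
  norm := M.norm
  intertw a := by
    show (↑g : Matrix (Fin n) (Fin n) (S' ⊗[S] R)) * M.θ (t a) * (↑g⁻¹ : Matrix (Fin n) (Fin n) (S' ⊗[S] R)) * ((↑g : Matrix (Fin n) (Fin n) (S' ⊗[S] R)) * M.w * ct (bcLam S' lam) (↑g : Matrix (Fin n) (Fin n) (S' ⊗[S] R))) =
      (↑g : Matrix (Fin n) (Fin n) (S' ⊗[S] R)) * M.w * ct (bcLam S' lam) (↑g : Matrix (Fin n) (Fin n) (S' ⊗[S] R)) * ct (bcLam S' lam) ((↑g : Matrix (Fin n) (Fin n) (S' ⊗[S] R)) * M.θ a * (↑g⁻¹ : Matrix (Fin n) (Fin n) (S' ⊗[S] R)))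
    have hc : ct (bcLam S' lam) (↑g : Matrix (Fin n) (Fin n) (S' ⊗[S] R)) * ct (bcLam S' lam) (↑g⁻¹ : Matrix (Fin n) (Fin n) (S' ⊗[S] R)) = 1 := by
      rw [← ct_mul, Units.inv_mul, ct_one]
    rw [ct_mul, ct_mul]
    calc _ = (↑g : Matrix (Fin n) (Fin n) (S' ⊗[S] R)) * (M.θ (t a) * M.w) * ct (bcLam S' lam) ↑g := by
          simp only [mul_assoc, Units.inv_mul_cancel_left]
      _ = (↑g : Matrix (Fin n) (Fin n) (S' ⊗[S] R)) * M.w * (ct (bcLam S' lam) (M.θ a) * ct (bcLam S' lam) (↑g : Matrix (Fin n) (Fin n) (S' ⊗[S] R))) := by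
          rw [M.intertw]; simp only [mul_assoc]
      _ = _ := by
          simp only [mul_assoc]
          rw [← mul_assoc (ct (bcLam S' lam) (↑g : Matrix (Fin n) (Fin n) (S' ⊗[S] R))) (ct (bcLam S' lam) (↑g⁻¹ : Matrix (Fin n) (Fin n) (S' ⊗[S] R))), hc, one_mul]

section Total

variable {S' : Type u} [CommRing S'] [Algebra S S'] (M : Model lam t n S')

/-- The algebra map of a model. -/
noncomputable def Model.F : S' ⊗[S] A →ₐ[S'] Matrix (Fin n) (Fin n) (S' ⊗[S] R) :=
  Algebra.TensorProduct.lift (Algebra.ofId S' _)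
    { M.θ with
      commutes' := fun s => by
        show M.θ (algebraMap S A s) = _
        rw [IsScalarTower.algebraMap_apply S R A, M.scalar, incl_algebraMap, ← IsScalarTower.algebraMap_apply,
          IsScalarTower.algebraMap_apply S (S' ⊗[S] R) (Matrix (Fin n) (Fin n) (S' ⊗[S] R))]
        rfl }
    fun s a => Algebra.commutes s _

theorem Model.F_tmul (s : S') (a : A) : M.F (s ⊗ₜ[S] a) = Matrix.scalar (Fin n) (s ⊗ₜ[S] (1 : R)) * M.θ a := by
  erw [Algebra.TensorProduct.lift_tmul (Algebra.ofId S' _)]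
  rfl

theorem Model.F_toA (x : S' ⊗[S] R) : M.F (H23EtCover.toA S R A S' x) = Matrix.scalar (Fin n) x := by
  induction x using TensorProduct.induction_on with
  | zero => simp
  | add x y hx hy => simp only [map_add, hx, hy]
  | tmul s r =>
    rw [H23EtCover.toA_tmul, M.F_tmul, M.scalar, ← map_mul, incl_apply, Algebra.TensorProduct.tmul_mul_tmul,
      mul_one, one_mul]

theorem Model.F_surjective : Function.Surjective M.F := fun X => by
  refine Submodule.span_induction (p := fun X _ => X ∈ Set.range M.F) ?_ ⟨0, map_zero _⟩ ?_ ?_ (M.span X)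
  · rintro _ ⟨a, rfl⟩
    exact ⟨(1 : S') ⊗ₜ a, by rw [M.F_tmul, ← Algebra.TensorProduct.one_def, map_one, one_mul]⟩
  · rintro _ _ _ _ ⟨a, rfl⟩ ⟨b, rfl⟩; exact ⟨a + b, map_add _ _ _⟩
  · rintro c _ _ ⟨z, rfl⟩
    exact ⟨H23EtCover.toA S R A S' c * z, by rw [map_mul, M.F_toA, smul_eq_scalar_mul]⟩

theorem Model.F_injective [IsAzumaya R A] (hrk : ∀ p : PrimeSpectrum R, Module.rankAtStalk (R := R) A p = n ^ 2) :
    Function.Injective M.F := by
  classical
  letI : Algebra R (S' ⊗[S] R) := (incl (S := S) (R := R) S').toAlgebra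
  let θ' : A →ₐ[R] Matrix (Fin n) (Fin n) (S' ⊗[S] R) := { M.θ with commutes' := M.scalar }
  let T := S' ⊗[S] R
  let Φ := Algebra.TensorProduct.lift (Algebra.ofId T (Matrix (Fin n) (Fin n) T)) θ'
    fun x _ => Algebra.commutes x _
  let e : S' ⊗[S] A → T ⊗[R] A := fun z => TensorProduct.liftAddHom
    (AddMonoidHom.mk' (fun s : S' => AddMonoidHom.mk' (fun a : A => (s ⊗ₜ[S] (1 : R) : T) ⊗ₜ[R] a)
        fun a b => TensorProduct.tmul_add _ a b)
      fun s s' => by ext a; simp [TensorProduct.add_tmul])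
    (fun c s a => by
      simp only [AddMonoidHom.mk'_apply]
      rw [← IsScalarTower.algebraMap_smul R c a, ← TensorProduct.smul_tmul]
      congr 1
      show (c • s) ⊗ₜ[S] (1 : R) = ((1 : S') ⊗ₜ[S] algebraMap S R c) * (s ⊗ₜ[S] 1)
      rw [Algebra.TensorProduct.tmul_mul_tmul, one_mul, mul_one, TensorProduct.smul_tmul,
        Algebra.algebraMap_eq_smul_one]) z
  let e' : T ⊗[R] A →+ S' ⊗[S] A := TensorProduct.liftAddHom
    (AddMonoidHom.mk' (fun x : T => (AddMonoidHom.mulLeft (H23EtCover.toA S R A S' x)).comp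
        (Algebra.TensorProduct.includeRight : A →ₐ[S] S' ⊗[S] A).toRingHom.toAddMonoidHom)
      fun x x' => by ext a; simp [add_mul])
    (fun r x a => by
      show H23EtCover.toA S R A S' (r • x) * ((1 : S') ⊗ₜ[S] a) =
        H23EtCover.toA S R A S' x * ((1 : S') ⊗ₜ[S] (r • a))
      rw [show r • x = x * ((1 : S') ⊗ₜ[S] r) from mul_comm _ _, map_mul, mul_assoc, H23EtCover.toA_tmul,
        Algebra.TensorProduct.tmul_mul_tmul, one_mul, Algebra.smul_def])
  have he : ∀ s a, e (s ⊗ₜ[S] a) = (s ⊗ₜ[S] (1 : R) : T) ⊗ₜ[R] a := fun s a => rfl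
  have hea : ∀ x y, e (x + y) = e x + e y := fun x y => map_add _ x y
  have he0 : e 0 = 0 := map_zero _
  have hee : ∀ z, e' (e z) = z := fun z => by
    induction z using TensorProduct.induction_on with
    | zero => rw [he0, map_zero]
    | add x y hx hy => rw [hea, map_add, hx, hy]
    | tmul s a =>
      rw [he]
      show H23EtCover.toA S R A S' (s ⊗ₜ[S] (1 : R)) * ((1 : S') ⊗ₜ[S] a) = _
      rw [H23EtCover.toA_tmul, map_one, Algebra.TensorProduct.tmul_mul_tmul, mul_one, one_mul]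
  have hFe : ∀ z, Φ (e z) = M.F z := fun z => by
    induction z using TensorProduct.induction_on with
    | zero => rw [he0, map_zero, map_zero]
    | add x y hx hy => rw [hea, map_add, map_add, hx, hy]
    | tmul s a =>
      rw [he, M.F_tmul]
      erw [Algebra.TensorProduct.lift_tmul (Algebra.ofId T _) θ']
      rfl
  have hΦ : Function.Bijective Φ := by
    refine Module.bijective_of_surjective_of_rankAtStalk_eq (φ := Φ.toLinearMap) (fun X => ?_) fun m hm => ?_
    · obtain ⟨z, rfl⟩ := M.F_surjective X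
      exact ⟨e z, hFe z⟩
    · haveI : Nontrivial T := PrimeSpectrum.nontrivial (⟨m, inferInstance⟩ : PrimeSpectrum T)
      rw [Module.rankAtStalk_baseChange, hrk, Module.rankAtStalk_eq_finrank_of_free]
      simp [Module.finrank_matrix, sq]
  intro x y hxy
  rw [← hee x, ← hee y, hΦ.1 ((hFe x).trans (hxy.trans (hFe y).symm))]

theorem Model.F_bc (z : S' ⊗[S] A) : M.F (t.bc S lam S' z) * M.w = M.w * ct (bcLam S' lam) (M.F z) := by
  induction z using TensorProduct.induction_on with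
  | zero => rw [map_zero, map_zero, zero_mul, show ct (bcLam S' lam) (0 : Matrix (Fin n) (Fin n) (S' ⊗[S] R)) = 0 by ext; simp [ct_apply], mul_zero]
  | add x y hx hy => simp only [map_add, add_mul, hx, hy, ct_add, mul_add]
  | tmul s a =>
    rw [AzInv.LamInv.bc_tmul, M.F_tmul, M.F_tmul, ct_mul, ct_scalar, bcLam_push_scalar, mul_assoc, M.intertw,
      smul_eq_scalar_mul]
    rw [← mul_assoc M.w, ← (Matrix.scalar_commute _ (fun r' => Commute.all (S := S' ⊗[S] R) _ r') _).eq,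
      smul_eq_scalar_mul]

end Total

theorem exists_model (hlam : ∀ r, lam (lam r) = r) (hfix : RInv.IsFixedRing S R lam.toRingEquiv)
    (hn : 0 < n) (hA : AzInv.IsAzumayaDeg R A n) (t : AzInv.LamInv R A lam) :
    ∃ (S' : Type u) (_ : CommRing S') (_ : Algebra S S') (_ : Algebra.Etale S S')
      (_ : Module.FaithfullyFlat S S'), Nonempty (Model lam t n S') := by
  classical
  haveI := hA.1
  haveI : Algebra.IsIntegral S R := H23RInv.isIntegral (lam := lam.toRingEquiv) hlam hfix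
  obtain ⟨S₁, _, _, _, _, f, hf⟩ := H23EtCover.exists_split_base (S := S) (R := R) (A := A) n hA.2
  let R₁ := S₁ ⊗[S] R
  have hμ := H23RInv.bcLam_involutive S₁ lam hlam
  let μ := bcLam (R := R) S₁ lam
  have hfix₁ : RInv.IsFixedRing S₁ R₁ μ :=
    H23RInv.isFixedRing_baseChange S₁ lam hlam hfix (Or.inl inferInstance)
  haveI : Algebra.IsIntegral S₁ R₁ := H23RInv.isIntegral hμ hfix₁
  let toA := H23EtCover.toA S R A S₁
  have hftoA : ∀ x, f (toA x) = Matrix.scalar (Fin n) x := fun x => by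
    rw [← mul_one (toA x), hf, map_one, mul_one]
  have hbc_mul : ∀ x y, t.bc S lam S₁ (x * y) = t.bc S lam S₁ y * t.bc S lam S₁ x := fun x y => by
    induction x using TensorProduct.induction_on with
    | zero => simp
    | add a b ha hb => simp only [add_mul, map_add, mul_add, ha, hb]
    | tmul s a =>
      induction y using TensorProduct.induction_on with
      | zero => simp
      | add c d hc hd => simp only [mul_add, map_add, add_mul, hc, hd]
      | tmul s' a' =>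
        simp only [Algebra.TensorProduct.tmul_mul_tmul, AzInv.LamInv.bc_tmul, AzInv.LamInv.map_mul, mul_comm s s']
  have hbctoA : ∀ x, t.bc S lam S₁ (toA x) = toA (μ x) := fun x => by
    induction x using TensorProduct.induction_on with
    | zero => simp
    | add x y hx hy => simp only [map_add, hx, hy]
    | tmul s r =>
      simp only [toA, μ, H23EtCover.toA_tmul, AzInv.LamInv.bc_tmul, bcLam_tmul]
      rw [AzInv.LamInv.map_algebraMap]
  have hbc_invol : ∀ x, t.bc S lam S₁ (t.bc S lam S₁ x) = x := fun x => by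
    induction x using TensorProduct.induction_on with
    | zero => simp
    | add x y hx hy => simp only [map_add, hx, hy]
    | tmul s a => simp [AzInv.LamInv.bc_tmul]
  let αf : Matrix (Fin n) (Fin n) R₁ → Matrix (Fin n) (Fin n) R₁ :=
    fun X => f (t.bc S lam S₁ (f.symm (ct μ X)))
  have hα1 : αf 1 = 1 := by
    simp only [αf, ct_one, map_one]
    rw [show (1 : S₁ ⊗[S] A) = (1 : S₁) ⊗ₜ[S] (1 : A) from rfl, AzInv.LamInv.bc_tmul, AzInv.LamInv.map_one]
    exact map_one f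
  have hαmul : ∀ X Y, αf (X * Y) = αf X * αf Y := fun X Y => by
    simp only [αf, ct_mul, map_mul, hbc_mul]
  have hαadd : ∀ X Y, αf (X + Y) = αf X + αf Y := fun X Y => by simp only [αf, ct_add, map_add]
  have hαsc : ∀ x, αf (Matrix.scalar (Fin n) x) = Matrix.scalar (Fin n) x := fun x => by
    simp only [αf, ct_scalar]
    rw [show f.symm (Matrix.scalar (Fin n) (μ x)) = toA (μ x) from f.injective (by rw [AlgEquiv.apply_symm_apply, hftoA]),
      hbctoA, hμ, hftoA]
  let α₀ : Matrix (Fin n) (Fin n) R₁ →ₐ[R₁] Matrix (Fin n) (Fin n) R₁ :=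
    { toFun := αf
      map_one' := hα1
      map_mul' := hαmul
      map_zero' := by
        have h := hαadd 0 0
        rw [add_zero] at h
        exact left_eq_add.mp h
      map_add' := hαadd
      commutes' := hαsc }
  have hαbij : Function.Bijective α₀ := by
    refine ⟨fun X Y h => ?_, fun Y => ⟨ct μ (f (t.bc S lam S₁ (f.symm Y))), ?_⟩⟩
    · have h1 := f.injective h
      have h2 := congrArg (fun z => f (t.bc S lam S₁ z)) h1
      simp only [hbc_invol, AlgEquiv.apply_symm_apply] at h2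
      rw [← ct_ct hμ X, h2, ct_ct hμ]
    · show αf _ = Y
      simp only [αf, μ]
      rw [ct_ct hμ, AlgEquiv.symm_apply_apply, hbc_invol, AlgEquiv.apply_symm_apply]
  let α := AlgEquiv.ofBijective α₀ hαbij
  haveI : Nonempty (Fin n) := ⟨⟨0, hn⟩⟩
  haveI : IsAzumaya R₁ (Matrix (Fin n) (Fin n) R₁) := IsAzumaya.matrix R₁ (Fin n)
  obtain ⟨S₂, _, _, _, _, u, hu⟩ :=
    H23EtCover.exists_inner_base (S := S₁) (R := R₁) (A := Matrix (Fin n) (Fin n) R₁) α
  letI : Algebra S S₂ := ((algebraMap S₁ S₂).comp (algebraMap S S₁)).toAlgebra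
  haveI : IsScalarTower S S₁ S₂ := .of_algebraMap_eq fun _ => rfl
  let φ : S₁ →ₐ[S] S₂ := IsScalarTower.toAlgHom S S₁ S₂
  let ρ : R₁ →ₐ[S₁] S₂ ⊗[S] R :=
    { (push (R := R) φ).toRingHom with commutes' := fun s => push_algebraMap (R := R) φ s }
  let π : S₂ ⊗[S₁] Matrix (Fin n) (Fin n) R₁ →ₐ[S₁] Matrix (Fin n) (Fin n) (S₂ ⊗[S] R) :=
    Algebra.TensorProduct.lift ((Algebra.ofId S₂ _).restrictScalars S₁) ρ.mapMatrix
      fun s X => Algebra.commutes s _
  let θ : A →+* Matrix (Fin n) (Fin n) R₁ :=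
    (f.toAlgHom.toRingHom).comp (Algebra.TensorProduct.includeRight : A →ₐ[S] S₁ ⊗[S] A).toRingHom
  have hθ : ∀ a, θ a = f ((1 : S₁) ⊗ₜ[S] a) := fun a => rfl
  have hspan : ∀ X, X ∈ Submodule.span R₁ (Set.range θ) := fun X => by
    obtain ⟨z, rfl⟩ := f.surjective X
    induction z using TensorProduct.induction_on with
    | zero => simp
    | add a b ha hb => rw [map_add]; exact add_mem ha hb
    | tmul s a =>
      rw [show s ⊗ₜ[S] a = toA (s ⊗ₜ[S] (1 : R)) * ((1 : S₁) ⊗ₜ[S] a) by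
        simp [toA, H23EtCover.toA_tmul], hf, smul_eq_scalar_mul]
      exact Submodule.smul_mem _ _ (Submodule.subset_span ⟨a, rfl⟩)
  have hscal : ∀ r, θ (algebraMap R A r) = Matrix.scalar (Fin n) (incl (S := S) S₁ r) := fun r => by
    rw [hθ, ← hftoA]; rfl
  have hπ : ∀ X, π ((1 : S₂) ⊗ₜ[S₁] X) = X.map (push (R := R) φ).toRingHom := fun X => by
    erw [Algebra.TensorProduct.lift_tmul ((Algebra.ofId S₂ _).restrictScalars S₁)]
    rw [map_one, one_mul]; rfl
  let w : (Matrix (Fin n) (Fin n) (S₂ ⊗[S] R))ˣ := Units.map π.toRingHom.toMonoidHom u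
  have hw : ∀ X, (αf X).map (push (R := R) φ).toRingHom * (↑w : Matrix (Fin n) (Fin n) (S₂ ⊗[S] R)) = (↑w : Matrix (Fin n) (Fin n) (S₂ ⊗[S] R)) * X.map (push (R := R) φ).toRingHom := by
    intro X
    have h : (1 : S₂) ⊗ₜ[S₁] αf X = ↑u * ((1 : S₂) ⊗ₜ[S₁] X) * ↑u⁻¹ := by
      rw [← hu, Algebra.TensorProduct.congr_apply, Algebra.TensorProduct.map_tmul]; rfl
    have h' := congrArg π h
    rw [map_mul, map_mul, hπ, hπ] at h'
    have hc : π ↑u⁻¹ * (↑w : Matrix (Fin n) (Fin n) (S₂ ⊗[S] R)) = 1 := by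
      show π ↑u⁻¹ * π ↑u = 1
      rw [← map_mul, Units.inv_mul, map_one]
    rw [h', mul_assoc, hc, mul_one]
    rfl
  let θ₂ : A →+* Matrix (Fin n) (Fin n) (S₂ ⊗[S] R) := (push (R := R) φ).toRingHom.mapMatrix.comp θ
  have hμ₂ := H23RInv.bcLam_involutive S₂ lam hlam
  let μ₂ := bcLam (R := R) S₂ lam
  have hint : ∀ a, θ₂ (t a) * (↑w : Matrix (Fin n) (Fin n) (S₂ ⊗[S] R)) = (↑w : Matrix (Fin n) (Fin n) (S₂ ⊗[S] R)) * ct μ₂ (θ₂ a) := fun a => by
    have h := hw (ct μ (θ a))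
    rw [ct_map (μ' := μ₂) (fun x => push_bcLam φ x)] at h
    have h' : αf (ct μ (θ a)) = θ (t a) := by
      simp only [αf, μ, hθ]
      rw [ct_ct hμ, AlgEquiv.symm_apply_apply, AzInv.LamInv.bc_tmul]
    rw [h'] at h
    exact h
  have hspan₂ : ∀ X, X ∈ Submodule.span (S₂ ⊗[S] R) (Set.range θ₂) := fun X =>
    span_map (push (R := R) φ).toRingHom θ hspan X
  set z : Matrix (Fin n) (Fin n) (S₂ ⊗[S] R) := (↑w : Matrix (Fin n) (Fin n) (S₂ ⊗[S] R)) * ct μ₂ (↑w⁻¹ : Matrix (Fin n) (Fin n) (S₂ ⊗[S] R)) with hz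
  have hzc : z * ct μ₂ (↑w : Matrix (Fin n) (Fin n) (S₂ ⊗[S] R)) = (↑w : Matrix (Fin n) (Fin n) (S₂ ⊗[S] R)) := by
    rw [hz, mul_assoc, ← ct_mul, Units.mul_inv, ct_one, mul_one]
  have hcomm : ∀ a, θ₂ a * z = z * θ₂ a := fun a => by
    have h1 : θ₂ (t a) = (↑w : Matrix (Fin n) (Fin n) (S₂ ⊗[S] R)) * ct μ₂ (θ₂ a) * (↑w⁻¹ : Matrix (Fin n) (Fin n) (S₂ ⊗[S] R)) := by
      rw [← hint, mul_assoc, Units.mul_inv, mul_one]
    have h2 : θ₂ a * (↑w : Matrix (Fin n) (Fin n) (S₂ ⊗[S] R)) = z * θ₂ a * ct μ₂ (↑w : Matrix (Fin n) (Fin n) (S₂ ⊗[S] R)) := by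
      have := hint (t a)
      rw [AzInv.LamInv.invol] at this
      rw [this, h1, ct_mul, ct_mul, ct_ct hμ₂, hz]
      simp only [mul_assoc]
    calc θ₂ a * z = θ₂ a * ((↑w : Matrix (Fin n) (Fin n) (S₂ ⊗[S] R)) * ct μ₂ (↑w⁻¹ : Matrix (Fin n) (Fin n) (S₂ ⊗[S] R))) := by rw [hz]
      _ = z * θ₂ a * (ct μ₂ (↑w : Matrix (Fin n) (Fin n) (S₂ ⊗[S] R)) * ct μ₂ (↑w⁻¹ : Matrix (Fin n) (Fin n) (S₂ ⊗[S] R))) := by rw [← mul_assoc, h2, mul_assoc]
      _ = z * θ₂ a := by rw [← ct_mul, Units.inv_mul, ct_one, mul_one]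
  have hall : ∀ X, X * z = z * X := fun X => by
    refine Submodule.span_induction ?_ ?_ ?_ ?_ (hspan₂ X)
    · rintro _ ⟨a, rfl⟩; exact hcomm a
    · simp
    · intro a b _ _ ha hb; rw [add_mul, mul_add, ha, hb]
    · intro c a _ ha; rw [Matrix.smul_mul, ha, Matrix.mul_smul]
  obtain ⟨r, hr⟩ := Matrix.mem_range_scalar_of_commute_single (M := z) fun i j _ => hall _
  have hru : IsUnit r := by
    have hzu : IsUnit z := w.isUnit.mul (isUnit_ct w⁻¹.isUnit)
    rw [← hr, Matrix.scalar_apply, Matrix.isUnit_diagonal, Pi.isUnit_iff] at hzu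
    exact hzu ⟨0, hn⟩
  obtain ⟨r, rfl⟩ := hru
  have hherm : ct μ₂ (↑w : Matrix (Fin n) (Fin n) (S₂ ⊗[S] R)) = (↑r⁻¹ : S₂ ⊗[S] R) • (↑w : Matrix (Fin n) (Fin n) (S₂ ⊗[S] R)) := by
    conv_rhs => rw [← hzc, ← hr, smul_eq_scalar_mul, smul_smul, Units.inv_mul, one_smul]
  have hnorm : μ₂ (↑r⁻¹ : S₂ ⊗[S] R) * ↑r⁻¹ = 1 := by
    set e : S₂ ⊗[S] R := ↑r⁻¹
    have h1 : (↑w : Matrix (Fin n) (Fin n) (S₂ ⊗[S] R)) = (μ₂ e * e) • ↑w := by
      conv_lhs => rw [← ct_ct hμ₂ (↑w : Matrix (Fin n) (Fin n) (S₂ ⊗[S] R)), hherm, ct_smul, hherm, smul_smul]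
    have h2 := congrArg (fun X => X * (↑w⁻¹ : Matrix (Fin n) (Fin n) (S₂ ⊗[S] R))) h1
    simp only [Units.mul_inv, Matrix.smul_mul] at h2
    have h3 := congrFun (congrFun h2 ⟨0, hn⟩) ⟨0, hn⟩
    simp only [Matrix.one_apply_eq, Matrix.smul_apply, smul_eq_mul, mul_one] at h3
    exact h3.symm
  exact ⟨S₂, inferInstance, inferInstance, Algebra.Etale.comp S S₁ S₂, Module.FaithfullyFlat.trans S S₁ S₂,
    ⟨{ θ := θ₂
       scalar := fun r => by
         show (θ (algebraMap R A r)).map (push (R := R) φ).toRingHom = _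
         rw [hscal, map_scalar]
         exact congrArg _ (push_incl φ r)
       span := hspan₂
       w := ↑w
       w_unit := w.isUnit
       e := ↑r⁻¹
       herm := hherm
       norm := hnorm
       intertw := hint }⟩⟩

end Groth.Agent.H23AzInv
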