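import Mathlib.RingTheory.Spectrum.Prime.FreeLocus
import Mathlib.LinearAlgebra.Matrix.NonsingularInverse
import Mathlib.LinearAlgebra.Matrix.Rank
import Mathlib.LinearAlgebra.Dimension.StrongRankCondition
import Mathlib.RingTheory.Finiteness.Projective

/-! # Lower semicontinuity of the dimension of spans in the fibres of a projective module -/

set_option autoImplicit false

universe v w

open TensorProduct

namespace Groth.Agent.H23AzInv

variable {R : Type v} [CommRing R] {A : Type w} [AddCommGroup A] [Module R A]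

/-- The fibre coordinates. -/
noncomputable def coord (K : Type v) [Field K] [Algebra R K] {N : ℕ} (c : A →ₗ[R] (Fin N → R)) :
    K ⊗[R] A →ₗ[K] (Fin N → K) :=
  (TensorProduct.piScalarRight R K K (Fin N)).toLinearMap ∘ₗ c.baseChange K

theorem coord_tmul (K : Type v) [Field K] [Algebra R K] {N : ℕ} (c : A →ₗ[R] (Fin N → R)) (k : K) (a : A)
    (j : Fin N) : coord K c (k ⊗ₜ[R] a) j = c a j • k := by
  simp [coord]

theorem exists_finrank_span_le [Module.Finite R A] [Module.Projective R A] (T : A → Prop)
    (q : PrimeSpectrum R) :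
    ∃ f : R, f ∉ q.asIdeal ∧ ∀ q' : PrimeSpectrum R, f ∉ q'.asIdeal →
      Module.finrank q.asIdeal.ResidueField (Submodule.span q.asIdeal.ResidueField
          (Set.range fun a : {a : A // T a} => (1 : q.asIdeal.ResidueField) ⊗ₜ[R] (a : A))) ≤
        Module.finrank q'.asIdeal.ResidueField (Submodule.span q'.asIdeal.ResidueField
          (Set.range fun a : {a : A // T a} => (1 : q'.asIdeal.ResidueField) ⊗ₜ[R] (a : A))) := by
  classical
  obtain ⟨N, g, c, -, -, hgc⟩ := Module.Finite.exists_comp_eq_id_of_projective R A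
  set K := q.asIdeal.ResidueField
  set X : Set (K ⊗[R] A) := Set.range fun a : {a : A // T a} => (1 : K) ⊗ₜ[R] (a : A)
  set d := Module.finrank K (Submodule.span K X)
  obtain ⟨x, hxs, -, hxi⟩ := Submodule.exists_fun_fin_finrank_span_eq K X
  choose a ha using hxs
  have hinj : Function.Injective (coord K c) := by
    have h1 : (g.baseChange K) ∘ₗ (c.baseChange K) = LinearMap.id := by
      rw [← LinearMap.baseChange_comp, hgc, LinearMap.baseChange_id]
    have h2 : Function.Injective (c.baseChange K) :=
      Function.LeftInverse.injective (g := g.baseChange K) (LinearMap.congr_fun h1)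
    exact (TensorProduct.piScalarRight R K K (Fin N)).injective.comp h2
  let M : Matrix (Fin d) (Fin N) R := fun i j => c (a i : A) j
  have hrows : ∀ (q' : PrimeSpectrum R) (i : Fin d),
      coord q'.asIdeal.ResidueField c ((1 : q'.asIdeal.ResidueField) ⊗ₜ[R] (a i : A)) =
        (M.map (algebraMap R q'.asIdeal.ResidueField)).row i := fun q' i => by
    funext j; rw [coord_tmul, Algebra.smul_def, mul_one]; rfl
  have hrowsK : LinearIndependent K (M.map (algebraMap R K)).row := by
    have h := hxi.map' (coord K c) (LinearMap.ker_eq_bot.mpr hinj)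
    have e1 : (M.map (algebraMap R K)).row = coord K c ∘ x := by
      funext i
      show _ = coord K c (x i)
      rw [← ha i]; exact (hrows q i).symm
    rw [e1]; exact h
  have hrank : (M.map (algebraMap R K)).rank = d := by
    rw [LinearIndependent.rank_matrix hrowsK, Fintype.card_fin]
  rw [Matrix.rank_eq_finrank_span_cols] at hrank
  obtain ⟨y, hys, -, hyi⟩ := Submodule.exists_fun_fin_finrank_span_eq K (Set.range (M.map (algebraMap R K)).col)
  choose e he using hys
  let Q : Matrix (Fin d) (Fin d) R := fun i j => M i (e (Fin.cast hrank.symm j))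
  refine ⟨Q.det, ?_, fun q' hq' => ?_⟩
  · rw [← Ideal.algebraMap_residueField_eq_zero, RingHom.map_det, ← Ne.eq_def, ← isUnit_iff_ne_zero,
      ← Matrix.isUnit_iff_isUnit_det, ← Matrix.linearIndependent_cols_iff_isUnit]
    have h := hyi.comp (Fin.cast hrank.symm) (Fin.cast_injective _)
    have e1 : ((algebraMap R K).mapMatrix Q).col = y ∘ Fin.cast hrank.symm := funext fun j => he _
    rw [e1]; exact h
  · set K' := q'.asIdeal.ResidueField
    have hQ : LinearIndependent K' (Q.map (algebraMap R K')).row := by
      rw [Matrix.linearIndependent_rows_iff_isUnit, Matrix.isUnit_iff_isUnit_det, isUnit_iff_ne_zero]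
      rw [← RingHom.mapMatrix_apply, ← RingHom.map_det]
      rwa [Ne, Ideal.algebraMap_residueField_eq_zero]
    have hM : LinearIndependent K' (M.map (algebraMap R K')).row :=
      LinearIndependent.of_comp (LinearMap.funLeft K' K' fun j => e (Fin.cast hrank.symm j)) hQ
    have hz : LinearIndependent K' fun i : Fin d => (1 : K') ⊗ₜ[R] (a i : A) := by
      refine LinearIndependent.of_comp (coord K' c) ?_
      convert hM using 1
      funext i
      exact hrows q' i
    haveI : FiniteDimensional K' (K' ⊗[R] A) := inferInstance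
    calc d = Module.finrank K' (Submodule.span K' (Set.range fun i : Fin d => (1 : K') ⊗ₜ[R] (a i : A))) := by
          rw [finrank_span_eq_card hz, Fintype.card_fin]
      _ ≤ _ := Submodule.finrank_mono (Submodule.span_mono (by rintro _ ⟨i, rfl⟩; exact ⟨a i, rfl⟩))

/-- A semilinear endomorphism on a fibre on which the twist is trivial. -/
noncomputable def fibreMap (K : Type*) [Field K] [Algebra R K] (lam : R → R)
    (hlam : ∀ r, algebraMap R K (lam r) = algebraMap R K r) (t : A → A)
    (hadd : ∀ a b, t (a + b) = t a + t b) (hsmul : ∀ r a, t (r • a) = lam r • t a) :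
    K ⊗[R] A →ₗ[K] K ⊗[R] A :=
  TensorProduct.AlgebraTensorModule.lift
    (LinearMap.toSpanSingleton K (A →ₗ[R] K ⊗[R] A)
      { toFun := fun a => (1 : K) ⊗ₜ[R] t a
        map_add' := fun a b => by rw [hadd, TensorProduct.tmul_add]
        map_smul' := fun r a => by
          rw [RingHom.id_apply, hsmul, ← TensorProduct.smul_tmul, TensorProduct.smul_tmul',
            Algebra.smul_def, hlam, ← Algebra.smul_def] })

theorem fibreMap_tmul (K : Type*) [Field K] [Algebra R K] (lam : R → R)
    (hlam : ∀ r, algebraMap R K (lam r) = algebraMap R K r) (t : A → A)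
    (hadd : ∀ a b, t (a + b) = t a + t b) (hsmul : ∀ r a, t (r • a) = lam r • t a) (k : K) (a : A) :
    fibreMap K lam hlam t hadd hsmul (k ⊗ₜ[R] a) = k ⊗ₜ[R] t a := by
  simp [fibreMap, TensorProduct.smul_tmul']

/-- The fibre is the sum of the spans of symmetric and of skew elements. -/
theorem finrank_sym_add_skew [Module.Finite R A] (K : Type*) [Field K] [Algebra R K] (h2 : (2 : K) ≠ 0)
    (lam : R → R) (hlam : ∀ r, algebraMap R K (lam r) = algebraMap R K r) (t : A → A)
    (hadd : ∀ a b, t (a + b) = t a + t b) (hsmul : ∀ r a, t (r • a) = lam r • t a)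
    (hneg : ∀ a, t (-a) = -t a) (hinv : ∀ a, t (t a) = a) :
    Module.finrank K (Submodule.span K (Set.range fun a : {a : A // t a = a} => (1 : K) ⊗ₜ[R] (a : A))) +
      Module.finrank K (Submodule.span K (Set.range fun a : {a : A // t a = -a} => (1 : K) ⊗ₜ[R] (a : A))) =
    Module.finrank K (K ⊗[R] A) := by
  set P := Submodule.span K (Set.range fun a : {a : A // t a = a} => (1 : K) ⊗ₜ[R] (a : A)) with hP
  set Q := Submodule.span K (Set.range fun a : {a : A // t a = -a} => (1 : K) ⊗ₜ[R] (a : A)) with hQ
  let τ := fibreMap K lam hlam t hadd hsmul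
  have hPx : ∀ x ∈ P, τ x = x := fun x hx => by
    refine Submodule.span_induction ?_ (map_zero τ) ?_ ?_ hx
    · rintro _ ⟨⟨a, ha⟩, rfl⟩; exact (fibreMap_tmul ..).trans (by rw [ha])
    · intro a b _ _ ha hb; rw [map_add, ha, hb]
    · intro c a _ ha; rw [map_smul, ha]
  have hQx : ∀ x ∈ Q, τ x = -x := fun x hx => by
    refine Submodule.span_induction ?_ (by simp) ?_ ?_ hx
    · rintro _ ⟨⟨a, ha⟩, rfl⟩; exact (fibreMap_tmul ..).trans (by rw [ha, TensorProduct.tmul_neg])
    · intro a b _ _ ha hb; rw [map_add, ha, hb, neg_add]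
    · intro c a _ ha; rw [map_smul, ha, smul_neg]
  refine Submodule.finrank_add_eq_of_isCompl (IsCompl.of_eq ?_ ?_)
  · rw [Submodule.eq_bot_iff]
    rintro x ⟨h1, h2'⟩
    have h : x = -x := (hPx x h1).symm.trans (hQx x h2')
    have h3 : (2 : K) • x = 0 := by rw [two_smul]; nth_rewrite 2 [h]; exact add_neg_cancel x
    exact (smul_eq_zero.mp h3).resolve_left h2
  · rw [eq_top_iff]
    intro x _
    induction x using TensorProduct.induction_on with
    | zero => exact zero_mem _
    | add x y hx hy => exact add_mem (hx trivial) (hy trivial)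
    | tmul k a =>
      have h1 : (1 : K) ⊗ₜ[R] (a + t a) ∈ P :=
        Submodule.subset_span ⟨⟨a + t a, by rw [hadd, hinv, add_comm]⟩, rfl⟩
      have h1' : (1 : K) ⊗ₜ[R] (a + -t a) ∈ Q :=
        Submodule.subset_span ⟨⟨a + -t a, by rw [hadd, hneg, hinv, neg_add, neg_neg, add_comm]⟩, rfl⟩
      have h3 : k ⊗ₜ[R] a = (k / 2) • ((1 : K) ⊗ₜ[R] (a + t a)) + (k / 2) • ((1 : K) ⊗ₜ[R] (a + -t a)) := by
        rw [TensorProduct.smul_tmul', TensorProduct.smul_tmul', smul_eq_mul, mul_one, ← TensorProduct.tmul_add]
        rw [show a + t a + (a + -t a) = a + a by abel, TensorProduct.tmul_add, ← TensorProduct.add_tmul]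
        congr 1; field_simp; ring
      rw [h3]
      exact add_mem (Submodule.mem_sup_left (P.smul_mem _ h1)) (Submodule.mem_sup_right (Q.smul_mem _ h1'))

end Groth.Agent.H23AzInv
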