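import Groth.Agent.H23AzInv.Models
import Groth.Agent.H23AzInv.Semicont
import Mathlib.Data.Sym.Card
import Mathlib.LinearAlgebra.FiniteDimensional.Lemmas

/-! # The orthogonal/symplectic sign of a model at ramified primes -/

set_option autoImplicit false

universe u v w

open TensorProduct Matrix

namespace Groth.Agent.H23AzInv

open Groth.Agent.H23RInv (bcLam)
open Groth.Agent.H23RInv.Herm (ct ct_apply ct_mul ct_one ct_ct isUnit_ct)

/-- Matrices with `Xᵀ = ε X`. -/
def symSpace (K : Type*) [Field K] (n : ℕ) (ε : K) : Submodule K (Matrix (Fin n) (Fin n) K) where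
  carrier := {X | X.transpose = ε • X}
  add_mem' {X Y} hX hY := by
    simp only [Set.mem_ofPred_eq] at *
    rw [Matrix.transpose_add, hX, hY, smul_add]
  zero_mem' := by simp
  smul_mem' c X hX := by
    simp only [Set.mem_ofPred_eq] at *
    rw [Matrix.transpose_smul, hX, smul_comm]

theorem mem_symSpace {K : Type*} [Field K] {n : ℕ} {ε : K} {X : Matrix (Fin n) (Fin n) K} :
    X ∈ symSpace K n ε ↔ X.transpose = ε • X := Iff.rfl

theorem finrank_symSpace_one (K : Type*) [Field K] (n : ℕ) :
    Module.finrank K (symSpace K n 1) = Nat.choose (n + 1) 2 := by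
  classical
  let f : (Sym2 (Fin n) → K) ≃ₗ[K] symSpace K n 1 :=
    { toFun := fun φ => ⟨Matrix.of fun i j => φ s(i, j), by
        rw [mem_symSpace, one_smul]; ext i j; simp [Sym2.eq_swap]⟩
      map_add' := fun φ ψ => rfl
      map_smul' := fun c φ => rfl
      invFun := fun X => Sym2.lift ⟨fun i j => (X : Matrix (Fin n) (Fin n) K) i j, fun i j => by
        have h := congrFun (congrFun (mem_symSpace.mp X.2) j) i
        rw [one_smul, Matrix.transpose_apply] at h
        exact h⟩
      left_inv := fun φ => funext fun z => by induction z using Sym2.ind with | h i j => rfl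
      right_inv := fun X => Subtype.ext (Matrix.ext fun i j => rfl) }
  rw [← f.finrank_eq, Module.finrank_pi, Sym2.card, Fintype.card_fin]

theorem finrank_symSpace_add_le (K : Type*) [Field K] (n : ℕ) (h2 : (2 : K) ≠ 0) :
    Module.finrank K (symSpace K n 1) + Module.finrank K (symSpace K n (-1)) ≤ n * n := by
  have hd : Disjoint (symSpace K n 1) (symSpace K n (-1)) := by
    rw [Submodule.disjoint_def]
    intro X h1 h1'
    rw [mem_symSpace, one_smul] at h1
    rw [mem_symSpace, h1, neg_one_smul] at h1'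
    ext i j
    have h := congrFun (congrFun h1' i) j
    rw [Matrix.neg_apply, eq_neg_iff_add_eq_zero, ← two_mul] at h
    simpa using (mul_eq_zero.mp h).resolve_left h2
  have h := Submodule.finrank_sup_add_finrank_inf_eq (symSpace K n 1) (symSpace K n (-1))
  rw [hd.eq_bot, finrank_bot, add_zero] at h
  rw [← h]
  refine (Submodule.finrank_le _).trans ?_
  simp [Module.finrank_matrix]

theorem two_mul_choose (n : ℕ) : 2 * Nat.choose (n + 1) 2 = (n + 1) * n := by
  induction n with
  | zero => rfl
  | succ n ih =>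
    rw [Nat.choose_succ_succ, Nat.choose_one_right, Nat.mul_add, ih]
    ring

variable {S : Type u} {R : Type v} [CommRing S] [CommRing R] [Algebra S R] {lam : R ≃ₐ[S] R}
  {A : Type w} [Ring A] [Algebra S A] [Algebra R A] [IsScalarTower S R A]

/-- The involution is orthogonal at the (ramified) prime `q`. -/
def Orth (t : AzInv.LamInv R A lam) (n : ℕ) (q : PrimeSpectrum R) : Prop :=
  Module.finrank q.asIdeal.ResidueField (Submodule.span q.asIdeal.ResidueField
    (Set.range fun a : {a : A // t a = a} => (1 : q.asIdeal.ResidueField) ⊗ₜ[R] (a : A))) = Nat.choose (n + 1) 2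

theorem finrank_span_le_of_field {k K : Type*} [Field k] [Field K] [Algebra k K] [Algebra R k] [Algebra R K]
    [IsScalarTower R k K] [Module.Finite R A] (T : A → Prop) :
    Module.finrank K (Submodule.span K (Set.range fun a : {a : A // T a} => (1 : K) ⊗ₜ[R] (a : A))) ≤
      Module.finrank k (Submodule.span k (Set.range fun a : {a : A // T a} => (1 : k) ⊗ₜ[R] (a : A))) := by
  let ι : k ⊗[R] A →ₗ[k] K ⊗[R] A := TensorProduct.AlgebraTensorModule.map (Algebra.linearMap k K) LinearMap.id
  set X : Set (k ⊗[R] A) := Set.range fun a : {a : A // T a} => (1 : k) ⊗ₜ[R] (a : A)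
  obtain ⟨x, -, hxs, -⟩ := Submodule.exists_fun_fin_finrank_span_eq k X
  refine le_trans (Submodule.finrank_mono (t := Submodule.span K (Set.range fun i => ι (x i))) ?_) ?_
  · refine Submodule.span_le.mpr ?_
    rintro _ ⟨a, rfl⟩
    have h : ι ((1 : k) ⊗ₜ[R] (a : A)) ∈ Submodule.span k (Set.range fun i => ι (x i)) := by
      have h1 : (1 : k) ⊗ₜ[R] (a : A) ∈ Submodule.span k (Set.range x) :=
        hxs.symm ▸ Submodule.subset_span ⟨a, rfl⟩
      have h2 := Submodule.mem_map_of_mem (f := ι) h1
      rw [Submodule.map_span, ← Set.range_comp] at h2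
      exact h2
    have h3 := Submodule.span_le_restrictScalars k K _ h
    simpa [ι] using h3
  · exact (finrank_range_le_card fun i => ι (x i)).trans (by simp)

theorem count_pos {a b c d g e N : ℕ} (h1 : c ≤ a) (h2 : d ≤ b) (hk : a + b = N) (hK : c + d = N)
    (hp : c ≤ g) (hq : d ≤ e) (hs : g + e ≤ N) : a = g := by omega

theorem count_neg {a b c d g e n : ℕ} (h1 : c ≤ a) (h2 : d ≤ b) (hk : a + b = n * n) (hK : c + d = n * n)
    (hp : c ≤ e) (hq : d ≤ g) (hs : g + e ≤ n * n) (hg : 2 * g = (n + 1) * n) (hn : 0 < n) : a ≠ g := by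
  intro h; subst h; nlinarith

theorem orth_iff (hlam : ∀ r, lam (lam r) = r) (h2 : IsUnit (2 : S)) {n : ℕ} (hn : 0 < n)
    (hA : AzInv.IsAzumayaDeg R A n) {t : AzInv.LamInv R A lam} {S₁ : Type u} [CommRing S₁] [Algebra S S₁]
    (M : Model lam t n S₁) (q₁ : PrimeSpectrum (S₁ ⊗[S] R))
    (hram : ∀ x, bcLam S₁ lam x - x ∈ q₁.asIdeal) :
    Orth t n (q₁.comap (incl (S := S) S₁)) ↔ M.e - 1 ∈ q₁.asIdeal := by
  classical
  haveI := hA.1
  set q := q₁.comap (incl (S := S) (R := R) S₁) with hq
  let k := q.asIdeal.ResidueField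
  let K := q₁.asIdeal.ResidueField
  let π : S₁ ⊗[S] R →+* K := algebraMap _ K
  let f : k →+* K := Ideal.ResidueField.map q.asIdeal q₁.asIdeal (incl (S := S) (R := R) S₁) rfl
  letI : Algebra R K := (π.comp (incl (S := S) (R := R) S₁)).toAlgebra
  letI : Algebra k K := f.toAlgebra
  haveI : IsScalarTower R k K := .of_algebraMap_eq fun r => (Ideal.ResidueField.map_algebraMap _ _ _ _ r).symm
  have hπμ : ∀ x, π (bcLam S₁ lam x) = π x := fun x => by
    rw [← sub_eq_zero, ← map_sub]
    exact Ideal.algebraMap_residueField_eq_zero.mpr (hram x)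
  have hlamk : ∀ r, algebraMap R k (lam r) = algebraMap R k r := fun r => by
    rw [← sub_eq_zero, ← map_sub, Ideal.algebraMap_residueField_eq_zero]
    show incl (S := S) S₁ (lam r - r) ∈ q₁.asIdeal
    rw [map_sub, bcLam_incl]
    exact hram _
  have hlamK : ∀ r, algebraMap R K (lam r) = algebraMap R K r := fun r => by
    show π (incl (S := S) S₁ (lam r)) = π (incl (S := S) S₁ r)
    rw [bcLam_incl, hπμ]
  have h2k : (2 : k) ≠ 0 := by
    have := ((h2.map (algebraMap S R)).map (algebraMap R k)).ne_zero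
    simpa [map_ofNat] using this
  have h2K : (2 : K) ≠ 0 := by
    have := ((h2.map (algebraMap S R)).map (algebraMap R K)).ne_zero
    simpa [map_ofNat] using this
  have hdimk : Module.finrank k (k ⊗[R] A) = n ^ 2 := by
    rw [← hA.2 q, Module.rankAtStalk_eq]
  have hdimK : Module.finrank K (K ⊗[R] A) = n ^ 2 := by
    rw [← (TensorProduct.AlgebraTensorModule.cancelBaseChange R k K K A).finrank_eq, Module.finrank_baseChange,
      hdimk]
  -- comparison with the fibre over `k`
  have hk := finrank_sym_add_skew (R := R) k h2k lam hlamk t t.map_add t.map_smul t.map_neg t.invol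
  have hK := finrank_sym_add_skew (R := R) K h2K lam hlamK t t.map_add t.map_smul t.map_neg t.invol
  have hle1 := finrank_span_le_of_field (R := R) (k := k) (K := K) (fun a : A => t a = a)
  have hle2 := finrank_span_le_of_field (R := R) (k := k) (K := K) (fun a : A => t a = -a)
  rw [hdimk] at hk
  rw [hdimK] at hK
  -- the model over `K`
  let θK : A →ₗ[R] Matrix (Fin n) (Fin n) K :=
    { toFun := fun a => (M.θ a).map π
      map_add' := fun a b => by rw [map_add]; exact Matrix.map_add π (map_add π) _ _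
      map_smul' := fun r a => by
        rw [RingHom.id_apply, Algebra.smul_def, map_mul, M.scalar, Matrix.map_mul, map_scalar, smul_eq_scalar_mul]
        exact (IsScalarTower.algebraMap_smul K r _) }
  let ψ : K ⊗[R] A →ₗ[K] Matrix (Fin n) (Fin n) K :=
    TensorProduct.AlgebraTensorModule.lift (LinearMap.toSpanSingleton K (A →ₗ[R] Matrix (Fin n) (Fin n) K) θK)
  have hψ : ∀ (c : K) (a : A), ψ (c ⊗ₜ[R] a) = c • (M.θ a).map π := fun c a => by
    simp [ψ, θK]
  have hψs : Function.Surjective ψ := fun X => by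
    refine Submodule.span_induction (p := fun X _ => X ∈ Set.range ψ) ?_ ⟨0, map_zero _⟩ ?_ ?_
      (span_map π M.θ M.span X)
    · rintro _ ⟨a, rfl⟩; exact ⟨1 ⊗ₜ a, by rw [hψ, one_smul]⟩
    · rintro _ _ _ _ ⟨a, rfl⟩ ⟨b, rfl⟩; exact ⟨a + b, map_add _ _ _⟩
    · rintro c _ _ ⟨z, rfl⟩; exact ⟨c • z, map_smul _ _ _⟩
  haveI : FiniteDimensional K (K ⊗[R] A) := inferInstance
  have hψi : Function.Injective ψ :=
    (LinearMap.injective_iff_surjective_of_finrank_eq_finrank
      (by rw [hdimK, Module.finrank_matrix]; simp [sq])).mpr hψs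
  let W := M.w.map π
  have hWu : IsUnit W := M.w_unit.map π.mapMatrix
  set ε := π M.e with hε
  have hWt : W.transpose = ε • W := by
    have h := congrArg (fun X => X.map π) M.herm
    ext i j
    have h' := congrFun (congrFun h i) j
    simp only [Matrix.map_apply, ct_apply, hπμ, Matrix.smul_apply, smul_eq_mul, map_mul] at h'
    exact h'
  have hεε : ε * ε = 1 := by
    have h := congrArg π M.norm
    rw [map_mul, hπμ, map_one] at h
    exact h
  let τ := fibreMap (R := R) K lam hlamK t t.map_add t.map_smul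
  let Z : K ⊗[R] A →ₗ[K] Matrix (Fin n) (Fin n) K := (LinearMap.mulRight K W) ∘ₗ ψ
  have hZi : Function.Injective Z := fun x y h => hψi (by
    obtain ⟨W', hW'⟩ := hWu
    have h' : ψ x * W = ψ y * W := h
    rw [← hW'] at h'
    exact (Units.mul_left_inj W').mp h')
  have hZτ : ∀ z, (Z z).transpose = ε • Z (τ z) := fun z => by
    induction z using TensorProduct.induction_on with
    | zero => simp
    | add x y hx hy => simp only [map_add, Matrix.transpose_add, hx, hy, smul_add]
    | tmul c a =>
      show (ψ (c ⊗ₜ[R] a) * W).transpose = ε • (ψ (τ (c ⊗ₜ[R] a)) * W)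
      rw [fibreMap_tmul, hψ, hψ, Matrix.smul_mul, Matrix.smul_mul, Matrix.transpose_smul, Matrix.transpose_mul, hWt,
        smul_comm]
      congr 1
      rw [Matrix.smul_mul]
      congr 1
      show W * ((M.θ a).map π).transpose = (M.θ (t a)).map π * M.w.map π
      rw [← Matrix.map_mul, M.intertw, Matrix.map_mul]
      congr 1
      ext i j
      simp [ct_apply, hπμ]
  have hP : Submodule.map Z (Submodule.span K (Set.range fun a : {a : A // t a = a} => (1 : K) ⊗ₜ[R] (a : A))) ≤
      symSpace K n ε := by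
    rw [Submodule.map_span, Submodule.span_le]
    rintro _ ⟨_, ⟨⟨a, ha⟩, rfl⟩, rfl⟩
    show _ = _
    rw [hZτ]
    congr 2
    exact (fibreMap_tmul ..).trans (by rw [ha])
  have hQ : Submodule.map Z (Submodule.span K (Set.range fun a : {a : A // t a = -a} => (1 : K) ⊗ₜ[R] (a : A))) ≤
      symSpace K n (-ε) := by
    rw [Submodule.map_span, Submodule.span_le]
    rintro _ ⟨_, ⟨⟨a, ha⟩, rfl⟩, rfl⟩
    show _ = _
    rw [hZτ, neg_smul, ← smul_neg, ← map_neg]
    congr 2
    exact (fibreMap_tmul ..).trans (by rw [ha, TensorProduct.tmul_neg])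
  have hP' := Submodule.finrank_mono hP
  have hQ' := Submodule.finrank_mono hQ
  rw [(Submodule.equivMapOfInjective Z hZi _).finrank_eq.symm] at hP' hQ'
  have hsum := finrank_symSpace_add_le K n h2K
  have h1 := finrank_symSpace_one K n
  have hch := two_mul_choose n
  have hε1 : ε = 1 ↔ M.e - 1 ∈ q₁.asIdeal := by
    rw [← Ideal.algebraMap_residueField_eq_zero, map_sub, map_one, sub_eq_zero]
  rw [← hε1]
  unfold Orth
  rw [pow_two] at hk hK
  rcases mul_self_eq_one_iff.mp hεε with h | h
  · rw [h] at hP' hQ'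
    exact iff_of_true (count_pos hle1 hle2 hk hK (hP'.trans h1.le) hQ' (h1 ▸ hsum)) h
  · rw [h] at hP' hQ'
    rw [neg_neg] at hQ'
    refine iff_of_false (count_neg hle1 hle2 hk hK hP' (hQ'.trans h1.le) (h1 ▸ hsum) hch hn) (fun h' => ?_)
    rw [h'] at h
    exact h2K (by linear_combination h)

end Groth.Agent.H23AzInv
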