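import Groth.Agent.H23AzInv.Matrix
import Groth.Agent.S17362
import Mathlib.Algebra.Azumaya.Basic

/-! # The standard models and the classification of types -/

set_option autoImplicit false

universe u v w w'

open TensorProduct Matrix

namespace Groth.Agent.H23AzInv

open Groth.Agent.H23RInv (bcLam)
open Groth.Agent.H23RInv.Herm (ct ct_apply ct_mul ct_one ct_ct isUnit_ct)

variable {S : Type u} {R : Type v} [CommRing S] [CommRing R] [Algebra S R] {lam : R ≃ₐ[S] R}

theorem no_ramified (hlam : ∀ r, lam (lam r) = r) (hfix : RInv.IsFixedRing S R lam.toRingEquiv)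
    (hq : RInv.IsQuadEtale S R) (q : PrimeSpectrum R) (h : ∀ r : R, lam r - r ∈ q.asIdeal) : False := by
  set p := q.comap (algebraMap S R)
  haveI := hq.1
  haveI := hq.2.1
  haveI := hq.2.2.1
  have hq' : RInv.IsQuadEtale (Localization.AtPrime p.asIdeal) (Localization.AtPrime p.asIdeal ⊗[S] R) :=
    ⟨inferInstance, inferInstance, inferInstance, fun P => by
      rw [Module.rankAtStalk_baseChange]; exact hq.2.2.2 _⟩
  exact ((H23RInv.not_isQuadEtale_atPrime_iff (lam := lam.toRingEquiv) hlam hfix p).mpr ⟨q, rfl, fun q' hq'' =>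
    PrimeSpectrum.ext (H23RInv.eq_of_comap_eq (lam := lam.toRingEquiv) hlam hfix q.asIdeal q'.asIdeal h hq''), h⟩) hq'

omit [Algebra S R] in
theorem isAzumayaDeg_self : AzInv.IsAzumayaDeg R R 1 :=
  ⟨inferInstance, fun p => by
    haveI : Nontrivial R := p.nontrivial
    rw [Module.rankAtStalk_self]; simp⟩

omit [Algebra S R] in
theorem isAzumayaDeg_matrix_self {n : ℕ} (hn : 0 < n) : AzInv.IsAzumayaDeg R (Matrix (Fin n) (Fin n) R) n := by
  have := isAzumayaDeg_matrix (N := n) hn (isAzumayaDeg_self (R := R))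
  rwa [mul_one] at this

/-- The tautological model of a twisted transpose. -/
noncomputable def Model.ofConj {n : ℕ} (hlam : ∀ r, lam (lam r) = r) (w : (Matrix (Fin n) (Fin n) R)ˣ) (e : R)
    (hw : AzInv.LamInv.transpose lam (Fin n) hlam (↑w : Matrix (Fin n) (Fin n) R) = e • (↑w : Matrix (Fin n) (Fin n) R))
    (he : lam e * e = 1) (S' : Type u) [CommRing S'] [Algebra S S'] :
    Model lam ((AzInv.LamInv.transpose lam (Fin n) hlam).conj w e hw he) n S' where
  θ := (incl (S := S) (R := R) S').mapMatrix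
  scalar r := by
    show (algebraMap R (Matrix (Fin n) (Fin n) R) r).map (incl (S := S) S') = _
    exact map_scalar _ r
  span X := by
    classical
    rw [Matrix.matrix_eq_sum_single X]
    refine Submodule.sum_mem _ fun i _ => Submodule.sum_mem _ fun j _ => ?_
    rw [show Matrix.single i j (X i j) = X i j • (Matrix.single i j (1 : R)).map (incl (S := S) S') by
      rw [Matrix.map_single _ _ _ (incl (S := S) (R := R) S'), map_one, Matrix.smul_single, smul_eq_mul, mul_one]]
    exact Submodule.smul_mem _ _ (Submodule.subset_span ⟨Matrix.single i j 1, rfl⟩)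
  w := (↑w : Matrix (Fin n) (Fin n) R).map (incl (S := S) S')
  w_unit := w.isUnit.map (incl (S := S) (R := R) S').mapMatrix
  e := incl (S := S) S' e
  herm := by
    ext i j
    have h := congrArg (fun M : Matrix (Fin n) (Fin n) R => incl (S := S) S' (M i j)) hw
    simp only [AzInv.LamInv.transpose_apply, bcLam_incl, Matrix.smul_apply, smul_eq_mul, map_mul] at h
    simpa [ct_apply] using h
  norm := by rw [← bcLam_incl, ← map_mul, he, map_one]
  intertw X := by
    show ((↑w : Matrix (Fin n) (Fin n) R) * AzInv.LamInv.transpose lam (Fin n) hlam X * (↑w⁻¹ : Matrix (Fin n) (Fin n) R)).map (incl (S := S) S') * _ = _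
    rw [← Matrix.map_mul, Units.inv_mul_cancel_right, Matrix.map_mul]
    exact congrArg _ (ct_map (μ := lam.toRingEquiv) (fun x => bcLam_incl S' x) X)

theorem orth_conj_iff (hlam : ∀ r, lam (lam r) = r) (h2 : IsUnit (2 : S))
    {n : ℕ} (hn : 0 < n) (w : (Matrix (Fin n) (Fin n) R)ˣ) (e : R)
    (hw : AzInv.LamInv.transpose lam (Fin n) hlam (↑w : Matrix (Fin n) (Fin n) R) = e • (↑w : Matrix (Fin n) (Fin n) R))
    (he : lam e * e = 1) (q : PrimeSpectrum R) (hq : ∀ r : R, lam r - r ∈ q.asIdeal) :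
    Orth ((AzInv.LamInv.transpose lam (Fin n) hlam).conj w e hw he) n q ↔ e - 1 ∈ q.asIdeal := by
  obtain ⟨q₁, hq₁, hram⟩ := exists_prime_over lam S q hq
  have h := orth_iff hlam h2 hn (isAzumayaDeg_matrix_self hn) (Model.ofConj hlam w e hw he S) q₁ hram
  rw [hq₁] at h
  rw [h, ← hq₁]
  show incl (S := S) S e - 1 ∈ q₁.asIdeal ↔ incl (S := S) S (e - 1) ∈ q₁.asIdeal
  rw [map_sub, map_one]

theorem orth_self (hlam : ∀ r, lam (lam r) = r) (q : PrimeSpectrum R) (hq : ∀ r : R, lam r - r ∈ q.asIdeal) :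
    Orth (AzInv.LamInv.self lam hlam) 1 q := by
  unfold Orth
  have htop : Submodule.span q.asIdeal.ResidueField (Set.range fun a : {a : R // AzInv.LamInv.self lam hlam a = a} =>
      (1 : q.asIdeal.ResidueField) ⊗ₜ[R] (a : R)) = ⊤ := by
    rw [eq_top_iff]
    intro z _
    induction z using TensorProduct.induction_on with
    | zero => exact zero_mem _
    | add x y hx hy => exact add_mem (hx trivial) (hy trivial)
    | tmul c a =>
      rw [show c ⊗ₜ[R] a = (c * algebraMap R q.asIdeal.ResidueField a) • ((1 : q.asIdeal.ResidueField) ⊗ₜ[R] (1 : R)) by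
        rw [TensorProduct.smul_tmul', smul_eq_mul, mul_one, mul_comm, ← Algebra.smul_def, TensorProduct.smul_tmul,
          smul_eq_mul, mul_one]]
      exact Submodule.smul_mem _ _ (Submodule.subset_span ⟨⟨1, by simp⟩, rfl⟩)
  haveI : Nontrivial R := q.nontrivial
  rw [htop, finrank_top, Module.finrank_baseChange, Module.finrank_self]
  rfl

theorem stdJ_transpose (T : Type*) [CommRing T] (n : ℕ) : (stdJ T n).transpose = -stdJ T n := by
  ext i j
  simp only [Matrix.transpose_apply, Matrix.neg_apply, stdJ]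
  by_cases h : i.val / 2 = j.val / 2
  · rw [if_pos h, if_pos h.symm]
    rcases lt_trichotomy i j with h' | h' | h'
    · simp [h', not_lt.mpr h'.le]
    · simp [h']
    · simp [h', not_lt.mpr h'.le]
  · simp [h, Ne.symm h]

theorem stdJ_map {T T' : Type*} [CommRing T] [CommRing T'] (f : T →+* T') (n : ℕ) :
    (stdJ T n).map f = stdJ T' n := by
  ext i j
  simp only [Matrix.map_apply, stdJ]
  split_ifs <;> simp

theorem stdJ_sq (T : Type*) [CommRing T] {n : ℕ} (hn : Even n) : stdJ T n * stdJ T n = -1 := by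
  obtain ⟨m, hm⟩ := hn
  ext i k
  have key : ∃ p : Fin n, p.val / 2 = i.val / 2 ∧ p ≠ i := by
    by_cases h : i.val % 2 = 0
    · exact ⟨⟨i.val + 1, by omega⟩, by simp only; omega, fun h' => by have := Fin.val_eq_of_eq h'; simp only at this; omega⟩
    · exact ⟨⟨i.val - 1, by omega⟩, by simp only; omega, fun h' => by have := Fin.val_eq_of_eq h'; simp only at this; omega⟩
  obtain ⟨p, hp, hpi⟩ := key
  have hpv : p.val ≠ i.val := Fin.val_ne_of_ne hpi
  rw [Matrix.mul_apply, Finset.sum_eq_single p]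
  · simp only [stdJ, Fin.lt_def, if_pos hp.symm]
    rcases eq_or_ne i k with rfl | hik
    · rw [if_pos hp, Matrix.neg_apply, Matrix.one_apply_eq]
      rcases Nat.lt_or_gt_of_ne hpv with h | h <;> simp [h, Nat.lt_asymm h]
    · rw [Matrix.neg_apply, Matrix.one_apply_ne hik, neg_zero]
      have hikv : i.val ≠ k.val := Fin.val_ne_of_ne hik
      by_cases hk : p.val / 2 = k.val / 2
      · have : k.val = p.val := by omega
        rw [if_pos hk, this]; simp
      · rw [if_neg hk, mul_zero]
  · intro j _ hj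
    have hjv : j.val ≠ p.val := Fin.val_ne_of_ne hj
    have : stdJ T n i j = 0 := by
      simp only [stdJ, Fin.lt_def]
      split_ifs <;> first | rfl | (exfalso; omega)
    rw [this, zero_mul]
  · simp

variable {A : Type w} [Ring A] [Algebra S A] [Algebra R A] [IsScalarTower S R A]

theorem isClopen_orth (hlam : ∀ r, lam (lam r) = r) (hfix : RInv.IsFixedRing S R lam.toRingEquiv)
    (h2 : IsUnit (2 : S)) {n : ℕ} (hn : 0 < n) (hA : AzInv.IsAzumayaDeg R A n) (t : AzInv.LamInv R A lam)
    (hall : ∀ q : PrimeSpectrum R, ∀ r : R, lam r - r ∈ q.asIdeal) :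
    IsClopen {q : PrimeSpectrum R | Orth t n q} := by
  have key : ∀ q : PrimeSpectrum R, ∃ U : Set (PrimeSpectrum R), IsOpen U ∧ q ∈ U ∧
      ∀ q' ∈ U, (Orth t n q' ↔ Orth t n q) := fun q => by
    obtain ⟨f, hf, h⟩ := Groth.Agent.S17362.result S R lam hlam hfix h2 A n hn hA t q (hall q)
    exact ⟨PrimeSpectrum.basicOpen f, (PrimeSpectrum.basicOpen f).2, hf, fun q' hq' => h q' (hall q') hq'⟩
  refine ⟨⟨isOpen_iff_forall_mem_open.mpr fun q hq => ?_⟩, isOpen_iff_forall_mem_open.mpr fun q hq => ?_⟩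
  · obtain ⟨U, hU, hqU, h⟩ := key q
    exact ⟨U, fun q' hq' h' => hq ((h q' hq').mp h'), hU, hqU⟩
  · obtain ⟨U, hU, hqU, h⟩ := key q
    exact ⟨U, fun q' hq' => (h q' hq').mpr hq, hU, hqU⟩

end Groth.Agent.H23AzInv
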