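import Groth.Agent.H23AzInv.Models

/-! # Automorphisms commuting with an involution are locally unitary -/

set_option autoImplicit false

universe u v w

open TensorProduct Matrix

namespace Groth.Agent.H23AzInv

open Groth.Agent.H23RInv (bcLam)

variable {S : Type u} {R : Type v} [CommRing S] [CommRing R] [Algebra S R] {lam : R ≃ₐ[S] R}
  {A : Type w} [Ring A] [Algebra S A] [Algebra R A] [IsScalarTower S R A]

theorem exists_unitary (hlam : ∀ r, lam (lam r) = r) (hfix : RInv.IsFixedRing S R lam.toRingEquiv)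
    (hsq : ∀ (S₁ : Type u) [CommRing S₁] [Algebra S S₁] [Algebra.Etale S S₁] (x : S₁ˣ),
      ∃ (S₂ : Type u) (_ : CommRing S₂) (_ : Algebra S₁ S₂) (_ : Algebra.Etale S₁ S₂)
        (_ : Module.FaithfullyFlat S₁ S₂) (y : S₂), y * y = algebraMap S₁ S₂ ↑x)
    {n : ℕ} (hn : 0 < n) (hA : AzInv.IsAzumayaDeg R A n) (t : AzInv.LamInv R A lam)
    (ψ : A ≃ₐ[R] A) (hψ : AzInv.IsInvHom t t ψ) :
    ∃ (S' : Type u) (_ : CommRing S') (_ : Algebra S S') (_ : Algebra.Etale S S')
      (_ : Module.FaithfullyFlat S S') (u : (S' ⊗[S] A)ˣ),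
      t.bc S lam S' (↑u : S' ⊗[S] A) * ↑u = 1 ∧
        ∀ x : S' ⊗[S] A,
          Algebra.TensorProduct.congr (AlgEquiv.refl : S' ≃ₐ[S'] S') (ψ.restrictScalars S) x =
            ↑u * x * ↑u⁻¹ := by
  classical
  haveI := hA.1
  haveI : Algebra.IsIntegral S R := H23RInv.isIntegral (lam := lam.toRingEquiv) hlam hfix
  obtain ⟨S₁, _, _, _, _, u, hu⟩ := H23EtCover.exists_inner_base (S := S) (R := R) ψ
  obtain ⟨S₂, _, _, _, _, ⟨M₂⟩⟩ := exists_model hlam hfix hn hA t
  let T := S₁ ⊗[S] S₂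
  haveI : Algebra.Etale S T := Algebra.Etale.comp S S₁ T
  haveI : Module.FaithfullyFlat S T := Module.FaithfullyFlat.trans S S₁ T
  let M := M₂.push' (Algebra.TensorProduct.includeRight : S₂ →ₐ[S] T)
  have hbc_mul : ∀ (S' : Type u) [CommRing S'] [Algebra S S'] (x y : S' ⊗[S] A),
      t.bc S lam S' (x * y) = t.bc S lam S' y * t.bc S lam S' x := fun S' _ _ x y => by
    induction x using TensorProduct.induction_on with
    | zero => simp
    | add a b ha hb => simp only [add_mul, map_add, mul_add, ha, hb]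
    | tmul s a =>
      induction y using TensorProduct.induction_on with
      | zero => simp
      | add c d hc hd => simp only [mul_add, map_add, add_mul, hc, hd]
      | tmul s' a' =>
        simp only [Algebra.TensorProduct.tmul_mul_tmul, AzInv.LamInv.bc_tmul, AzInv.LamInv.map_mul, mul_comm s s']
  have hbc_invol : ∀ (S' : Type u) [CommRing S'] [Algebra S S'] (x : S' ⊗[S] A),
      t.bc S lam S' (t.bc S lam S' x) = x := fun S' _ _ x => by
    induction x using TensorProduct.induction_on with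
    | zero => simp
    | add x y hx hy => simp only [map_add, hx, hy]
    | tmul s a => simp [AzInv.LamInv.bc_tmul]
  have hbc_one : ∀ (S' : Type u) [CommRing S'] [Algebra S S'], t.bc S lam S' (1 : S' ⊗[S] A) = 1 :=
    fun S' _ _ => by
    rw [show (1 : S' ⊗[S] A) = (1 : S') ⊗ₜ[S] (1 : A) from rfl, AzInv.LamInv.bc_tmul, AzInv.LamInv.map_one]
  let P (S' : Type u) [CommRing S'] [Algebra S S'] := Algebra.TensorProduct.congr
    (AlgEquiv.refl : S' ≃ₐ[S'] S') (ψ.restrictScalars S)
  have hPtmul : ∀ (S' : Type u) [CommRing S'] [Algebra S S'] (s : S') (a : A), P S' (s ⊗ₜ[S] a) = s ⊗ₜ ψ a :=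
    fun S' _ _ s a => by simp [P]
  have hPbc : ∀ (S' : Type u) [CommRing S'] [Algebra S S'] (x : S' ⊗[S] A),
      P S' (t.bc S lam S' x) = t.bc S lam S' (P S' x) := fun S' _ _ x => by
    induction x using TensorProduct.induction_on with
    | zero => simp
    | add x y hx hy => simp only [map_add, hx, hy]
    | tmul s a => rw [AzInv.LamInv.bc_tmul, hPtmul, hPtmul, AzInv.LamInv.bc_tmul, hψ a]
  have hgen : ∀ (S' : Type u) [CommRing S'] [Algebra S S'] (S'' : Type u) [CommRing S''] [Algebra S S'']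
      (φ : S' →ₐ[S] S'') (x : S' ⊗[S] A),
      Algebra.TensorProduct.map φ (AlgHom.id S A) (t.bc S lam S' x) =
        t.bc S lam S'' (Algebra.TensorProduct.map φ (AlgHom.id S A) x) := fun S' _ _ S'' _ _ φ x => by
    induction x using TensorProduct.induction_on with
    | zero => simp
    | add x y hx hy => simp only [map_add, hx, hy]
    | tmul s a => simp [AzInv.LamInv.bc_tmul]
  have hinner : ∀ (S' : Type u) [CommRing S'] [Algebra S S'] (φ : S₁ →ₐ[S] S') (x : S' ⊗[S] A),
      P S' x = Algebra.TensorProduct.map φ (AlgHom.id S A) ↑u * x *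
        Algebra.TensorProduct.map φ (AlgHom.id S A) ↑u⁻¹ := fun S' _ _ φ x => by
    induction x using TensorProduct.induction_on with
    | zero => simp
    | add x y hx hy => simp only [map_add, hx, hy, mul_add, add_mul]
    | tmul s a =>
      have h1 := congrArg (Algebra.TensorProduct.map φ (AlgHom.id S A)) (hu ((1 : S₁) ⊗ₜ[S] a))
      rw [map_mul, map_mul] at h1
      simp only [Algebra.TensorProduct.congr_apply, Algebra.TensorProduct.map_tmul, map_one, AlgHom.id_apply] at h1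
      rw [show (s ⊗ₜ[S] a : S' ⊗[S] A) = s • ((1 : S') ⊗ₜ[S] a) by rw [TensorProduct.smul_tmul', smul_eq_mul, mul_one],
        map_smul, mul_smul_comm, smul_mul_assoc, hPtmul]
      congr 1
  let φ₁ : S₁ →ₐ[S] T := Algebra.TensorProduct.includeLeft
  let uT := Units.map (Algebra.TensorProduct.map φ₁ (AlgHom.id S A)).toMonoidHom u
  have huT : ∀ x, P T x = ↑uT * x * ↑uT⁻¹ := hinner T φ₁
  set z := t.bc S lam T ↑uT * ↑uT with hz
  have hzc : ∀ x, z * x = x * z := fun x => by
    have h1 := hPbc T (t.bc S lam T x)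
    rw [hbc_invol, huT, huT, hbc_mul, hbc_mul, hbc_invol] at h1
    have h2 : t.bc S lam T ↑uT * t.bc S lam T ↑uT⁻¹ = 1 := by rw [← hbc_mul, Units.inv_mul, hbc_one]
    calc z * x = t.bc S lam T ↑uT * (↑uT * x * ↑uT⁻¹) * ↑uT := by simp [hz, mul_assoc]
      _ = x * z := by
        rw [h1, ← mul_assoc, ← mul_assoc, h2, one_mul, hz, mul_assoc]
  have hzfix : t.bc S lam T z = z := by rw [hz, hbc_mul, hbc_invol]
  obtain ⟨c, hc⟩ := Matrix.mem_range_scalar_of_commute_single (M := M.F z) fun i j _ => by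
    obtain ⟨x, hx⟩ := M.F_surjective (Matrix.single i j 1)
    rw [← hx]
    show M.F x * M.F z = M.F z * M.F x
    rw [← map_mul, ← map_mul, hzc]
  have hF := M.F_injective hA.2
  have hzc' : z = H23EtCover.toA S R A T c := hF (by rw [M.F_toA, hc])
  have hμc : bcLam T lam c = c := by
    have h1 : t.bc S lam T (H23EtCover.toA S R A T c) = H23EtCover.toA S R A T (bcLam T lam c) := by
      clear hc hzc'
      induction c using TensorProduct.induction_on with
      | zero => simp
      | add x y hx hy => simp only [map_add, hx, hy]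
      | tmul s r => rw [bcLam_tmul, H23EtCover.toA_tmul, H23EtCover.toA_tmul, AzInv.LamInv.bc_tmul, AzInv.LamInv.map_algebraMap]
    rw [← hzc', hzfix, hzc'] at h1
    have h2 := congrArg M.F h1
    rw [M.F_toA, M.F_toA] at h2
    haveI : Nonempty (Fin n) := Fin.pos_iff_nonempty.mp hn
    exact (Matrix.scalar_inj.mp h2).symm
  obtain ⟨d, hd⟩ := ((H23RInv.isFixedRing_baseChange T lam hlam hfix (Or.inl inferInstance)).2 c).mp hμc
  have hd' : z = d ⊗ₜ[S] (1 : A) := by
    rw [hzc', ← hd, Algebra.TensorProduct.algebraMap_apply, Algebra.algebraMap_self, RingHom.id_apply,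
      H23EtCover.toA_tmul, map_one]
  have hzu : IsUnit z := by
    refine IsUnit.mul ⟨⟨_, t.bc S lam T ↑uT⁻¹, ?_, ?_⟩, rfl⟩ uT.isUnit
    · rw [← hbc_mul, Units.inv_mul, hbc_one]
    · rw [← hbc_mul, Units.mul_inv, hbc_one]
  have hcu : IsUnit c := by
    have h1 : IsUnit (Matrix.scalar (Fin n) c) := hc ▸ hzu.map M.F
    have h2 := (Matrix.isUnit_iff_isUnit_det _).mp h1
    rw [Matrix.scalar_apply, Matrix.det_diagonal, Finset.prod_const, Finset.card_univ, Fintype.card_fin] at h2
    exact (isUnit_pow_iff hn.ne').mp h2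
  have hdu : IsUnit d := H23RInv.isUnit_of_isUnit_algebraMap
    (H23RInv.isFixedRing_baseChange T lam hlam hfix (Or.inl inferInstance)) (hd ▸ hcu)
  obtain ⟨S₃, _, _, _, _, y, hy⟩ := hsq T hdu.unit
  letI : Algebra S S₃ := ((algebraMap T S₃).comp (algebraMap S T)).toAlgebra
  haveI : IsScalarTower S T S₃ := .of_algebraMap_eq fun _ => rfl
  haveI : Algebra.Etale S S₃ := Algebra.Etale.comp S T S₃
  haveI : Module.FaithfullyFlat S S₃ := Module.FaithfullyFlat.trans S T S₃
  have hyu : IsUnit y := isUnit_of_mul_isUnit_left (hy ▸ hdu.unit.isUnit.map (algebraMap T S₃))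
  obtain ⟨y, rfl⟩ := hyu
  let φ : T →ₐ[S] S₃ := IsScalarTower.toAlgHom S T S₃
  let u₃ := Units.map (Algebra.TensorProduct.map φ (AlgHom.id S A)).toMonoidHom uT
  have hz₃ : t.bc S lam S₃ ↑u₃ * ↑u₃ = ((y : S₃) * y) • (1 : S₃ ⊗[S] A) := by
    show t.bc S lam S₃ (Algebra.TensorProduct.map φ (AlgHom.id S A) ↑uT) *
      Algebra.TensorProduct.map φ (AlgHom.id S A) ↑uT = _
    rw [← hgen, ← map_mul, ← hz, hd', Algebra.TensorProduct.map_tmul, map_one, hy, IsUnit.unit_spec,
      Algebra.TensorProduct.one_def, TensorProduct.smul_tmul', smul_eq_mul, mul_one]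
    rfl
  refine ⟨S₃, inferInstance, inferInstance, inferInstance, inferInstance,
    Units.map (algebraMap S₃ (S₃ ⊗[S] A)).toMonoidHom y⁻¹ * u₃, ?_, fun x => ?_⟩
  · show t.bc S lam S₃ (algebraMap S₃ (S₃ ⊗[S] A) ↑y⁻¹ * ↑u₃) * (algebraMap S₃ (S₃ ⊗[S] A) ↑y⁻¹ * ↑u₃) = 1
    rw [← Algebra.smul_def, map_smul, smul_mul_assoc, mul_smul_comm, smul_smul, hz₃, smul_smul]
    rw [show (↑y⁻¹ * ↑y⁻¹ * (↑y * ↑y) : S₃) = 1 by
      rw [mul_mul_mul_comm, Units.inv_mul, mul_one], one_smul]
  · rw [_root_.mul_inv_rev, Units.val_mul, Units.val_mul, ← map_inv]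
    show _ = algebraMap S₃ (S₃ ⊗[S] A) ↑y⁻¹ * ↑u₃ * x * (↑u₃⁻¹ * algebraMap S₃ (S₃ ⊗[S] A) ↑y⁻¹⁻¹)
    have h := hinner S₃ (φ.comp φ₁) x
    have e1 : ∀ w, Algebra.TensorProduct.map (φ.comp φ₁) (AlgHom.id S A) w =
        Algebra.TensorProduct.map φ (AlgHom.id S A) (Algebra.TensorProduct.map φ₁ (AlgHom.id S A) w) := fun w => by
      induction w using TensorProduct.induction_on with
      | zero => simp
      | add x y hx hy => simp only [map_add, hx, hy]
      | tmul s a => simp
    rw [e1, e1] at h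
    rw [show ∀ w : S₃ ⊗[S] A, algebraMap S₃ (S₃ ⊗[S] A) ↑y⁻¹ * w = ↑y⁻¹ • w from fun w => (Algebra.smul_def _ _).symm,
      inv_inv, show ∀ w : S₃ ⊗[S] A, w * algebraMap S₃ (S₃ ⊗[S] A) ↑y = (↑y : S₃) • w from
        fun w => by rw [← Algebra.commutes, Algebra.smul_def],
      smul_mul_assoc, smul_mul_assoc, mul_smul_comm, Units.smul_def, smul_smul, Units.inv_mul, one_smul]
    exact h

end Groth.Agent.H23AzInv
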